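import Cfsg.Agent.Spor.RuL.K1
import Cfsg.Agent.Spor.RuL.D1

set_option autoImplicit false
set_option maxRecDepth 100000000
set_option Elab.async false

namespace Cfsg.Agent.Spor.RuL

theorem c_res : sub (lowM (ones 524288)) (Nat.lor 1 (Nat.lor (mskE H8) (mskH HH))) = true := by decide +kernel
theorem c_w8 : okC 8 2 H8 = true := by decide +kernel
theorem c_r0 : allR r0k 0 2 = true := by decide +kernel
theorem c_r2 : allR r0k 2 2 = true := by decide +kernel
theorem c_r4 : allR r0k 4 3 = true := by decide +kernel
theorem c_r7 : allR r0k 7 3 = true := by decide +kernel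
theorem c_r10 : allR r0k 10 4 = true := by decide +kernel
theorem c_r14 : allR r0k 14 6 = true := by decide +kernel
theorem c_r20 : allR r0k 20 36 = true := by decide +kernel

end Cfsg.Agent.Spor.RuL
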