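import Cfsg.Agent.Spor.RuL.K1
import Cfsg.Agent.Spor.RuL.D1

set_option autoImplicit false
set_option maxRecDepth 100000000
set_option Elab.async false

namespace Cfsg.Agent.Spor.RuL

theorem c_h0 : okC 16 0 Hc0 = true := by decide +kernel
theorem c_h1 : okC 16 0 Hc1 = true := by decide +kernel
theorem c_h2 : okC 16 0 Hc2 = true := by decide +kernel
theorem c_h3 : okC 16 0 Hc3 = true := by decide +kernel
theorem c_h4 : okC 16 0 Hc4 = true := by decide +kernel
theorem c_h5 : okC 16 0 Hc5 = true := by decide +kernel
theorem c_h6 : okC 16 0 Hc6 = true := by decide +kernel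
theorem c_h7 : okC 16 0 Hc7 = true := by decide +kernel
theorem c_h8 : okC 16 0 Hc8 = true := by decide +kernel
theorem c_h9 : okC 16 0 Hc9 = true := by decide +kernel

end Cfsg.Agent.Spor.RuL
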