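import Cfsg.Agent.Spor.RuL.K1
import Cfsg.Agent.Spor.RuL.D1

set_option autoImplicit false
set_option maxRecDepth 100000000
set_option Elab.async false

namespace Cfsg.Agent.Spor.RuL

theorem c_h10 : okC 16 0 Hc10 = true := by decide +kernel
theorem c_h11 : okC 16 0 Hc11 = true := by decide +kernel
theorem c_h12 : okC 16 0 Hc12 = true := by decide +kernel
theorem c_h13 : okC 16 0 Hc13 = true := by decide +kernel
theorem c_h14 : okC 16 0 Hc14 = true := by decide +kernel
theorem c_h15 : okC 16 0 Hc15 = true := by decide +kernel
theorem c_h16 : okC 16 0 Hc16 = true := by decide +kernel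
theorem c_h17 : okC 16 0 Hc17 = true := by decide +kernel
theorem c_h18 : okC 16 0 Hc18 = true := by decide +kernel
theorem c_h19 : okC 16 0 Hc19 = true := by decide +kernel

end Cfsg.Agent.Spor.RuL
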