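import Cfsg.Agent.Spor.RuL.K1
import Cfsg.Agent.Spor.RuL.D1

set_option autoImplicit false
set_option maxRecDepth 100000000
set_option Elab.async false

namespace Cfsg.Agent.Spor.RuL

theorem c_h20 : okC 16 0 Hc20 = true := by decide +kernel
theorem c_h21 : okC 16 0 Hc21 = true := by decide +kernel
theorem c_h22 : okC 16 0 Hc22 = true := by decide +kernel
theorem c_h23 : okC 16 0 Hc23 = true := by decide +kernel
theorem c_h24 : okC 16 0 Hc24 = true := by decide +kernel
theorem c_h25 : okC 16 0 Hc25 = true := by decide +kernel
theorem c_h26 : okC 16 0 Hc26 = true := by decide +kernel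
theorem c_h27 : okC 16 0 Hc27 = true := by decide +kernel
theorem c_h28 : okC 16 0 Hc28 = true := by decide +kernel

end Cfsg.Agent.Spor.RuL
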