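import Cfsg.Agent.Spor.TC
import Cfsg.Agent.Spor.RuL.C2
import Cfsg.Agent.Spor.RuL.C3
import Cfsg.Agent.Spor.RuL.C4

set_option autoImplicit false
set_option maxRecDepth 100000000
set_option Elab.async false

namespace Cfsg.Agent.Spor.RuL

theorem c_hh : AllP (fun H => okC 16 0 H = true) HH :=
  show AllP (fun H => okC 16 0 H = true) [Hc0, Hc1, Hc2, Hc3, Hc4, Hc5, Hc6, Hc7, Hc8, Hc9, Hc10, Hc11, Hc12, Hc13, Hc14, Hc15, Hc16, Hc17, Hc18, Hc19, Hc20, Hc21, Hc22, Hc23, Hc24, Hc25, Hc26, Hc27, Hc28] from AllP.cons c_h0 (AllP.cons c_h1 (AllP.cons c_h2 (AllP.cons c_h3 (AllP.cons c_h4 (AllP.cons c_h5 (AllP.cons c_h6 (AllP.cons c_h7 (AllP.cons c_h8 (AllP.cons c_h9 (AllP.cons c_h10 (AllP.cons c_h11 (AllP.cons c_h12 (AllP.cons c_h13 (AllP.cons c_h14 (AllP.cons c_h15 (AllP.cons c_h16 (AllP.cons c_h17 (AllP.cons c_h18 (AllP.cons c_h19 (AllP.cons c_h20 (AllP.cons c_h21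 (AllP.cons c_h22 (AllP.cons c_h23 (AllP.cons c_h24 (AllP.cons c_h25 (AllP.cons c_h26 (AllP.cons c_h27 (AllP.cons c_h28 (AllP.nil)))))))))))))))))))))))))))))

end Cfsg.Agent.Spor.RuL
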