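import Cfsg.Agent.Spor.RuL.K1

set_option autoImplicit false
set_option maxRecDepth 100000000
set_option Elab.async false

namespace Cfsg.Agent.Spor.RuL

open Cfsg.Spor
theorem c_bb : allN bbOk 76 = true := by decide +kernel
theorem c_wb : allN (fun k => wordOk (nth [] WB k) (bv k)) 37 = true := by decide +kernel
theorem c_wf : allN (fun j => wordOk (nth [] WF j) (fr j)) 56 = true := by decide +kernel
theorem c_cl : allN clOk 5 = true := by decide +kernel
theorem c_tab : allN tabOk 20 = true := by decide +kernel
theorem c_gram : allN gramOk 37 = true := by decide +kernel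
theorem c_g : allN gOk 19 = true := by decide +kernel
theorem c_msg : allN msgOk 37 = true := by decide +kernel
theorem c_btp : leqL BTP (tr BP) = true := by decide +kernel
theorem c_btn : leqL BTN (tr BN) = true := by decide +kernel
theorem c_col : leqL COL (tr G) = true := by decide +kernel
theorem c_fr : allN frOk 56 = true := by decide +kernel
theorem c_len : leqL [BBP.length, G.length, PP.length, ruTable.length] [76, 19, 56, 20] = true := by decide +kernel
theorem c_yb : allN ybOk 37 = true := by decide +kernel
theorem c_sep : sepM YB (ones 4060) = true := by decide +kernel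
theorem c_v0 : v0Ok = true := by decide +kernel
theorem c_ker : kerOk = true := by decide +kernel
theorem c_gen7 : genOk 7 AP7 AN7 HA7 HB7 = true := by decide +kernel
theorem c_gen1 : genOk 1 AP1 AN1 HA1 HB1 = true := by decide +kernel
theorem c_gen9 : genOk 9 AP9 AN9 HA9 HB9 = true := by decide +kernel
theorem c_gen3 : genOk 3 AP3 AN3 HA3 HB3 = true := by decide +kernel
theorem c_gen5 : genOk 5 AP5 AN5 HA5 HB5 = true := by decide +kernel

end Cfsg.Agent.Spor.RuL
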