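/-
Checkers for computations in the Conway–Wales lattice.
-/
import Cfsg.Agent.Spor.R30
import Cfsg.Agent.Spor.MatChk
import Cfsg.Prelude.Def_Spor_Ru

set_option autoImplicit false

namespace Cfsg.Agent.Spor.RuL

open Cfsg.Spor

noncomputable section

def hd (l : List Nat) : Nat := List.rec 0 (fun a _ _ => a) l
def tl (l : List Nat) : List Nat := List.rec List.nil (fun _ t _ => t) l
def evn (a : Nat) : Bool := Nat.beq (Nat.land a 1) 0
def hf (a : Nat) : Nat := Nat.shiftRight a 1

def add2 (o a x y : Nat) (C : List Nat) : List Nat :=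
  Bool.rec (addP (addP C x) (andn o y)) C (evn a)

/-- signed sum of signed masks, shifted by the number of terms -/
def cnt (o : Nat) (C0 P : List Nat) : List Nat → Nat → Nat → List Nat :=
  List.rec (fun _ _ _ => C0) (fun p _ ih N gp gn =>
    add2 o gn (hd N) p (add2 o gp p (hd N) (ih (tl N) (hf gp) (hf gn)))) P

/-- number of set bits among the lowest `n` -/
def pcn (n : Nat) : Nat → Nat :=
  Nat.rec (fun _ => 0) (fun _ ih g => Nat.add (Nat.land g 1) (ih (hf g))) n

/-- the bits number `v` of the entries of a list -/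
def rd (L : List Nat) (v : Nat) : Nat :=
  List.rec 0 (fun a _ ih => Nat.add (Nat.land (Nat.shiftRight a v) 1) (Nat.mul 2 ih)) L

def tr (L : List Nat) : List Nat := mkL (rd L) 56 0

/-- exclusive or of the selected entries -/
def xs (L : List Nat) : Nat → Nat :=
  List.rec (fun _ => 0) (fun a _ ih c => Bool.rec (Nat.xor a (ih (hf c))) (ih (hf c)) (evn c)) L

def sumP (C0 L : List Nat) : List Nat := List.rec C0 (fun a _ ih => addP ih a) L

/-- the bits of `h` at the set bits of `r` -/
def cmp (n : Nat) : Nat → Nat → Nat :=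
  Nat.rec (fun _ _ => 0) (fun _ ih r h =>
    Bool.rec (Nat.add (Nat.land h 1) (Nat.mul 2 (ih (hf r) (hf h)))) (ih (hf r) (hf h)) (evn r)) n

/-- the entries of `I` placed at the set bits of `r` -/
def spr (n : Nat) : Nat → List Nat → List Nat :=
  Nat.rec (fun _ _ => List.nil) (fun _ ih r I =>
    Bool.rec (List.cons (hd I) (ih (hf r) (tl I))) (List.cons 0 (ih (hf r) I)) (evn r)) n

/-- test all sums of at most `s` entries -/
def subs (leaf : Nat → Nat → Bool) (L : List Nat) : Nat → Nat → Bool :=
  List.rec leaf (fun c _ ih s y =>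
    Nat.rec (leaf 0 y) (fun s' _ => band (ih (Nat.succ s') y) (ih s' (Nat.xor y c))) s) L

def drp (n : Nat) : List Nat → List Nat := Nat.rec (fun l => l) (fun _ ih l => ih (tl l)) n

def rt (a b : Nat) : Nat :=
  Nat.lor (Nat.land (Nat.shiftRight a 28) (ones 28)) (Nat.shiftLeft (Nat.land b (ones 28)) 28)

def ix (q : RuIdx) : Nat := 4 * q.1.val + q.2.val
def pt (j : Nat) : RuIdx := (Fin.ofNat 7 (j / 4), Fin.ofNat 4 j)

/-- real coordinates -/
def co (v : RuVec) (j : Nat) : Int := if j < 28 then (v (pt j)).re else (v (pt (j - 28))).im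

def bt (m j : Nat) : Int := if m.testBit j then 1 else 0
def sg (p n j : Nat) : Int := bt p j - bt n j

/-- the vector with entries `1` and `-1` on two masks -/
def mk (p n : Nat) : RuVec := fun q => ⟨sg p n (ix q), sg p n (28 + ix q)⟩

def mp (z : Nat) (v : RuVec) : RuVec :=
  match z with
  | 0 => gI • v
  | 1 => ruRj v
  | 2 => ruRk v
  | 3 => ruSign v
  | _ => ruShift v

def app (w : List Nat) (v : RuVec) : RuVec := List.rec v (fun z _ ih => mp z ih) w

def eqv (v w : RuVec) : Bool := allN (fun j => decide (co v j = co w j)) 56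

def codOk (v : RuVec) (lo hi : Nat) : Bool :=
  allN (fun j => decide ((co v j - bt lo j - 2 * bt hi j) % 4 = 0)) 56

def fr (j : Nat) : RuVec := (4 : Int) • mk (Nat.shiftLeft 1 j) 0

def wordOk (e : List Nat) (v : RuVec) : Bool :=
  band (Nat.blt (hd e) 20) (eqv (app (tl e) (nth 0 ruTable (hd e))) v)

def wt (n p q s : Nat) : Bool := Nat.beq (Nat.add (pcn n p) (pcn n q)) s

end

end Cfsg.Agent.Spor.RuL
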