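/-
Soundness of the bit computations for the Conway–Wales lattice.
-/
import Cfsg.Agent.Spor.R3A
import Cfsg.Agent.Spor.Mat
import Cfsg.Agent.Spor.RuL.K0

set_option autoImplicit false

namespace Cfsg.Agent.Spor.RuL

open Finset

theorem evn_eq (a : ℕ) : evn a = !a.testBit 0 := by
  unfold evn
  have : Nat.land a 1 = a % 2 := Nat.and_one_is_mod a
  rw [this, Nat.testBit_zero]
  rcases Nat.mod_two_eq_zero_or_one a with h | h <;> rw [h] <;> rfl

theorem tb_hf (a i : ℕ) : (hf a).testBit i = a.testBit (i + 1) := by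
  unfold hf; rw [tb_shr, add_comm]

theorem bt_hf (a i : ℕ) : bt (hf a) i = bt a (i + 1) := by unfold bt; rw [tb_hf]

theorem bt_cases (a i : ℕ) : bt a i = 0 ∨ bt a i = 1 := by unfold bt; split_ifs <;> simp

theorem bt_zero (i : ℕ) : bt 0 i = 0 := by simp [bt]

theorem bt_toNat (a i : ℕ) : ((a.testBit i).toNat : ℤ) = bt a i := by
  unfold bt; cases a.testBit i <;> rfl

theorem bt_congr {a b i j : ℕ} (h : a.testBit i = b.testBit j) : bt a i = bt b j := by
  unfold bt; rw [h]

theorem tb_of_bt {a b i j : ℕ} (h : (bt a i - bt b j) % 2 = 0) : a.testBit i = b.testBit j := by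
  unfold bt at h
  revert h
  cases a.testBit i <;> cases b.testBit j <;> simp

theorem bt_xor (a b i : ℕ) : bt (Nat.xor a b) i = bt a i + bt b i - 2 * (bt a i * bt b i) := by
  unfold bt; rw [tb_xor]; cases a.testBit i <;> cases b.testBit i <;> rfl

theorem bt_andn (a b i : ℕ) : bt (andn a b) i = bt a i - bt a i * bt b i := by
  unfold bt; rw [tb_andn]; cases a.testBit i <;> cases b.testBit i <;> rfl

theorem bt_land1 (a : ℕ) : ((Nat.land a 1 : ℕ) : ℤ) = bt a 0 := by
  have : Nat.land a 1 = a % 2 := Nat.and_one_is_mod a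
  rw [this]; unfold bt; rw [Nat.testBit_zero]
  rcases Nat.mod_two_eq_zero_or_one a with h | h <;> rw [h] <;> rfl

theorem hd_eq (l : List ℕ) : hd l = nth 0 l 0 := by cases l <;> rfl
theorem nth_tl (l : List ℕ) (k : ℕ) : nth 0 (tl l) k = nth 0 l (k + 1) := by cases l <;> rfl
theorem nth_zero {α : Type} (d a : α) (l : List α) : nth d (a :: l) 0 = a := rfl
theorem nth_succ {α : Type} (d a : α) (l : List α) (k : ℕ) : nth d (a :: l) (k + 1) = nth d l k := rfl
theorem nth_nil {α : Type} (d : α) (k : ℕ) : nth d [] k = d := rfl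

theorem valP_add2 {o v : ℕ} (ho : o.testBit v = true) (a x y : ℕ) (C : List ℕ) :
    (valP (add2 o a x y C) v : ℤ) = valP C v + bt a 0 * (bt x v - bt y v + 1) := by
  unfold add2
  rw [brec_eq, evn_eq]
  cases h : a.testBit 0
  · simp [bt, h]
  · rw [if_neg (by simp), valP_addP, valP_addP]
    push_cast
    rw [bt_toNat, bt_toNat, bt_andn]
    simp only [bt, h, ho, if_true]
    ring

theorem pcn_eq (n g : ℕ) : (pcn n g : ℤ) = ∑ k ∈ range n, bt g k := by
  induction n generalizing g with
  | zero => rfl
  | succ n ih =>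
    have : pcn (n + 1) g = Nat.land g 1 + pcn n (hf g) := rfl
    rw [this, sum_range_succ']
    push_cast
    rw [ih, bt_land1, add_comm]
    simp only [bt_hf]

theorem valP_cnt {o v : ℕ} (ho : o.testBit v = true) (C0 P N : List ℕ) (gp gn : ℕ) :
    (valP (cnt o C0 P N gp gn) v : ℤ) = valP C0 v +
      ∑ k ∈ range P.length, sg gp gn k * sg (nth 0 P k) (nth 0 N k) v +
      (pcn P.length gp + pcn P.length gn) := by
  induction P generalizing N gp gn with
  | nil => simp [cnt, pcn]
  | cons p P ih =>
    have : cnt o C0 (p :: P) N gp gn =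
      add2 o gn (hd N) p (add2 o gp p (hd N) (cnt o C0 P (tl N) (hf gp) (hf gn))) := rfl
    rw [this, valP_add2 ho, valP_add2 ho, ih, List.length_cons, sum_range_succ', pcn_eq, pcn_eq,
      pcn_eq, pcn_eq, sum_range_succ', sum_range_succ']
    simp only [nth_succ, nth_zero, nth_tl, sg, bt_hf, hd_eq]
    ring

theorem valP_nil (v : ℕ) : valP [] v = 0 := rfl

theorem tb_valP (P : List ℕ) (v k : ℕ) : (valP P v).testBit k = (nth 0 P k).testBit v := by
  induction P generalizing k with
  | nil => simp [valP, nth_nil]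
  | cons p P ih =>
    have : valP (p :: P) v = (p.testBit v).toNat + 2 * valP P v := rfl
    rw [this]
    cases k with
    | zero => rw [nth_zero, Nat.testBit_zero]; cases p.testBit v <;> simp <;> omega
    | succ k =>
      rw [nth_succ, ← ih, Nat.testBit_succ]
      congr 1
      cases p.testBit v <;> simp <;> omega

theorem bt_eq_mod (a k : ℕ) : bt a k = ((a / 2 ^ k % 2 : ℕ) : ℤ) := by
  unfold bt
  rw [Nat.testBit_eq_decide_div_mod_eq]
  rcases Nat.mod_two_eq_zero_or_one (a / 2 ^ k) with h | h <;> rw [h] <;> rfl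

theorem bt_valP (P : List ℕ) (v k : ℕ) :
    bt (nth 0 P k) v = ((valP P v / 2 ^ k % 2 : ℕ) : ℤ) := by
  rw [← bt_eq_mod]; exact bt_congr (tb_valP P v k).symm

theorem tb_add2 (b x : ℕ) (hb : b < 2) (k : ℕ) :
    (b + 2 * x).testBit (k + 1) = x.testBit k := by
  rw [Nat.testBit_succ]; congr 1; omega

theorem tb_land1_add (a x : ℕ) : (Nat.land a 1 + 2 * x).testBit 0 = a.testBit 0 := by
  have : Nat.land a 1 = a % 2 := Nat.and_one_is_mod a
  rw [this, Nat.testBit_zero, Nat.testBit_zero]
  congr 1; apply propext; omega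

theorem land1_lt (a : ℕ) : Nat.land a 1 < 2 := by
  have : Nat.land a 1 = a % 2 := Nat.and_one_is_mod a
  omega

theorem tb_rd (L : List ℕ) (v k : ℕ) : (rd L v).testBit k = (nth 0 L k).testBit v := by
  induction L generalizing k with
  | nil => simp [rd, nth_nil]
  | cons a L ih =>
    have : rd (a :: L) v = Nat.land (Nat.shiftRight a v) 1 + 2 * rd L v := rfl
    rw [this]
    cases k with
    | zero => rw [tb_land1_add, tb_shr]; rfl
    | succ k => rw [tb_add2 _ _ (land1_lt _), ih]; rfl

theorem nth_tr (L : List ℕ) {j : ℕ} (hj : j < 56) : nth 0 (tr L) j = rd L j := by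
  rw [nth_eq, tr, mkL_getD _ _ _ hj, zero_add]

theorem bt_tr (L : List ℕ) {j : ℕ} (hj : j < 56) (k : ℕ) :
    bt (nth 0 (tr L) j) k = bt (nth 0 L k) j := by
  rw [nth_tr L hj]; exact bt_congr (tb_rd L j k)

theorem tr_length (L : List ℕ) : (tr L).length = 56 := mkL_length _ _ _

theorem bt_xs (L : List ℕ) (c v : ℕ) :
    (bt (xs L c) v - ∑ k ∈ range L.length, bt c k * bt (nth 0 L k) v) % 2 = 0 := by
  induction L generalizing c with
  | nil => simp [xs, bt]
  | cons a L ih =>
    have : xs (a :: L) c = (Bool.rec (Nat.xor a (xs L (hf c))) (xs L (hf c)) (evn c) : ℕ) := rfl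
    rw [this, brec_eq, evn_eq, List.length_cons, sum_range_succ']
    have h := ih (hf c)
    simp only [bt_hf] at h
    simp only [nth_succ, nth_zero]
    cases e : c.testBit 0
    · have : bt c 0 = 0 := by simp [bt, e]
      rw [this]; simpa using h
    · have : bt c 0 = 1 := by simp [bt, e]
      rw [this, if_neg (by simp), bt_xor]; omega

theorem valP_sumP (C0 L : List ℕ) (v : ℕ) :
    (valP (sumP C0 L) v : ℤ) = valP C0 v + ∑ k ∈ range L.length, bt (nth 0 L k) v := by
  induction L with
  | nil => simp [sumP]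
  | cons a L ih =>
    have : sumP C0 (a :: L) = addP (sumP C0 L) a := rfl
    rw [this, valP_addP, List.length_cons, sum_range_succ']
    push_cast
    rw [ih, bt_toNat]
    simp only [nth_succ, nth_zero]
    ring

theorem pcn_succ (n g : ℕ) : pcn (n + 1) g = (g.testBit 0).toNat + pcn n (hf g) := by
  have : pcn (n + 1) g = Nat.land g 1 + pcn n (hf g) := rfl
  rw [this]
  have h1 := bt_land1 g
  have h2 := bt_toNat g 0
  omega

theorem cmp_lt (n r h : ℕ) : cmp n r h < 2 ^ pcn n r := by
  induction n generalizing r h with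
  | zero => exact Nat.one_pos
  | succ n ih =>
    have : cmp (n + 1) r h = (Bool.rec (Nat.land h 1 + 2 * cmp n (hf r) (hf h))
      (cmp n (hf r) (hf h)) (evn r) : ℕ) := rfl
    rw [this, evn_eq, pcn_succ]
    have h1 := ih (hf r) (hf h)
    have h2 := land1_lt h
    cases r.testBit 0
    · simpa using h1
    · show _ + _ < 2 ^ (1 + _)
      rw [pow_add]; omega

theorem spr_length (n r : ℕ) (I : List ℕ) : (spr n r I).length = n := by
  induction n generalizing r I with
  | zero => rfl
  | succ n ih =>
    have : spr (n + 1) r I = (Bool.rec (hd I :: spr n (hf r) (tl I)) (0 :: spr n (hf r) I)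
      (evn r) : List ℕ) := rfl
    rw [this]
    cases evn r <;> simp [ih]

theorem tb_spr (n r h v : ℕ) (I : List ℕ)
    (hI : ∀ u < pcn n r, (nth 0 I u).testBit v = (cmp n r h).testBit u) {j : ℕ} (hj : j < n) :
    (nth 0 (spr n r I) j).testBit v = (r.testBit j && h.testBit j) := by
  induction n generalizing r h I j with
  | zero => omega
  | succ n ih =>
    have e1 : spr (n + 1) r I = (Bool.rec (hd I :: spr n (hf r) (tl I)) (0 :: spr n (hf r) I)
      (evn r) : List ℕ) := rfl
    have e2 : cmp (n + 1) r h = (Bool.rec (Nat.land h 1 + 2 * cmp n (hf r) (hf h))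
      (cmp n (hf r) (hf h)) (evn r) : ℕ) := rfl
    rw [e2, pcn_succ, evn_eq] at hI
    rw [e1, evn_eq]
    cases e : r.testBit 0 <;> rw [e] at hI
    · cases j with
      | zero => rw [e]; exact Nat.zero_testBit v
      | succ j =>
        rw [← tb_hf, ← tb_hf]
        exact ih (hf r) (hf h) I (fun u hu => hI u (by simpa using hu)) (by omega)
    · cases j with
      | zero =>
        rw [e, Bool.true_and, ← tb_land1_add h (cmp n (hf r) (hf h))]
        exact (congrArg (·.testBit v) (hd_eq I)).trans (hI 0 (by simp))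
      | succ j =>
        rw [← tb_hf, ← tb_hf]
        refine ih (hf r) (hf h) (tl I) (fun u hu => ?_) (by omega)
        rw [nth_tl, hI (u + 1) (by simp; omega)]
        exact tb_add2 _ _ (land1_lt _) _

theorem nth_idpls (K n k : ℕ) {u : ℕ} (hu : u < n) : nth 0 (idpls K n k) u = idpl K (k + u) := by
  induction n generalizing k u with
  | zero => omega
  | succ n ih =>
    rw [idpls_succ]
    cases u with
    | zero => rfl
    | succ u => rw [nth_succ, ih _ (by omega)]; congr 1; omega

theorem idpls_length (K n k : ℕ) : (idpls K n k).length = n := by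
  induction n generalizing k with
  | zero => rfl
  | succ n ih => rw [idpls_succ, List.length_cons, ih]

theorem tb_idpls {K u v : ℕ} (hu : u < K) (hv : v < 2 ^ K) :
    (nth 0 (idpls K K 0) u).testBit v = v.testBit u := by
  rw [nth_idpls _ _ _ hu, zero_add, tb_idpl hu]; simp [hv]

theorem tb_spr' {r h j : ℕ} (hj : j < 56) :
    (nth 0 (spr 56 r (idpls (pcn 56 r) (pcn 56 r) 0)) j).testBit (cmp 56 r h) =
      (r.testBit j && h.testBit j) :=
  tb_spr 56 r h _ _ (fun _ hu => tb_idpls hu (cmp_lt _ _ _)) hj

theorem cmp_inj {r h h' : ℕ} (e : cmp 56 r h = cmp 56 r h') {j : ℕ} (hj : j < 56) :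
    (r.testBit j && h.testBit j) = (r.testBit j && h'.testBit j) := by
  rw [← tb_spr' hj, e, tb_spr' hj]

theorem xs_zero (L : List ℕ) {h : ℕ} (e : pcn L.length h = 0) : xs L h = 0 := by
  induction L generalizing h with
  | nil => rfl
  | cons a L ih =>
    have : xs (a :: L) h = (Bool.rec (Nat.xor a (xs L (hf h))) (xs L (hf h)) (evn h) : ℕ) := rfl
    rw [List.length_cons, pcn_succ] at e
    rw [this, evn_eq]
    cases e' : h.testBit 0
    · exact ih (by omega)
    · rw [e'] at e; simp at e

theorem subs_sound {leaf : ℕ → ℕ → Bool} {L : List ℕ} {s y : ℕ} (hc : subs leaf L s y = true)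
    {h : ℕ} (hh : pcn L.length h ≤ s) :
    leaf (s - pcn L.length h) (Nat.xor y (xs L h)) = true := by
  induction L generalizing s y h with
  | nil => exact (congrArg (leaf s) (Nat.xor_zero y)).trans hc
  | cons a L ih =>
    cases s with
    | zero =>
      rw [xs_zero _ (by omega), Nat.zero_sub]
      exact (congrArg (leaf 0) (Nat.xor_zero y)).trans hc
    | succ s =>
      have e : xs (a :: L) h = (Bool.rec (Nat.xor a (xs L (hf h))) (xs L (hf h)) (evn h) : ℕ) := rfl
      have hc' : band (subs leaf L (s + 1) y) (subs leaf L s (Nat.xor y a)) = true := hc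
      rw [band_eq, Bool.and_eq_true] at hc'
      rw [List.length_cons, pcn_succ] at hh ⊢
      rw [e, evn_eq]
      cases e' : h.testBit 0 <;> rw [e'] at hh
      · simpa using ih hc'.1 (h := hf h) (by simpa using hh)
      · have := ih hc'.2 (h := hf h) (by simp at hh; omega)
        rw [show s + 1 - (true.toNat + pcn L.length (hf h)) = s - pcn L.length (hf h) by
          simp; omega]
        exact (congrArg (leaf _) (Nat.xor_assoc y a _).symm).trans this

theorem subs_of {leaf : ℕ → ℕ → Bool} {L : List ℕ} {s y : ℕ} (h0 : leaf (s + 1) y = true)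
    (h : ∀ k < L.length, subs leaf (drp (k + 1) L) s (Nat.xor y (nth 0 L k)) = true) :
    subs leaf L (s + 1) y = true := by
  induction L with
  | nil => exact h0
  | cons a L ih =>
    show band (subs leaf L (s + 1) y) (subs leaf L s (Nat.xor y a)) = true
    rw [band_eq, Bool.and_eq_true]
    exact ⟨ih fun k hk => h (k + 1) (by simpa using hk), h 0 (by simp)⟩

theorem tb_sel {o v : ℕ} (ho : o.testBit v = true) (P : List ℕ) (y : ℕ)
    (h : ∀ k < P.length, (nth 0 P k).testBit v = y.testBit k) : (sel o P y).testBit v = true := by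
  induction P generalizing y with
  | nil => exact ho
  | cons p P ih =>
    have : sel o (p :: P) y = Nat.land (sel o P (hf y)) (Bool.rec p (Nat.xor p o) (evn y)) := rfl
    rw [this, tb_land, ih (hf y) fun k hk => by rw [tb_hf]; exact h (k + 1) (by simpa using hk),
      evn_eq]
    have h0 : p.testBit v = y.testBit 0 := h 0 (by simp)
    cases e : y.testBit 0 <;> rw [e] at h0
    · show (Nat.xor p o).testBit v = true
      rw [tb_xor, h0, ho]; rfl
    · exact h0

theorem tb_rt (a b j : ℕ) : (rt a b).testBit j =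
    if j < 28 then a.testBit (28 + j) else (decide (j < 56) && b.testBit (j - 28)) := by
  unfold rt
  rw [tb_lor, tb_land, tb_shr, tb_shl, tb_land, tb_ones, tb_ones]
  split_ifs with h
  · simp [h]
  · by_cases h' : j < 56
    · simp [h, h', show j - 28 < 28 by omega, show 28 ≤ j by omega]
    · simp [h, h', show ¬ j - 28 < 28 by omega]

theorem sepM_sound' {Ms : List ℕ} {X : ℕ} (hc : sepM Ms X = true) {i j : ℕ}
    (hi : X.testBit i = true) (hj : X.testBit j = true)
    (h : ∀ M ∈ Ms, M.testBit i = M.testBit j) : i = j := by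
  induction Ms generalizing X with
  | nil => exact single_sound hc hi hj
  | cons M Ms ih =>
    by_cases h1 : single X = true
    · exact single_sound h1 hi hj
    · have h2 : (Bool.rec (band (sepM Ms (Nat.land X M)) (sepM Ms (andn X M))) true (single X) :
          Bool) = true := hc
      rw [brec_eq, if_neg h1, band_eq, Bool.and_eq_true] at h2
      have h3 := h M List.mem_cons_self
      have h4 : ∀ M ∈ Ms, M.testBit i = M.testBit j := fun M' h' => h M' (List.mem_cons_of_mem _ h')
      cases e : M.testBit i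
      · exact ih h2.2 (by rw [tb_andn, hi, e]; rfl) (by rw [tb_andn, hj, ← h3, e]; rfl) h4
      · exact ih h2.1 (by rw [tb_land, hi, e]; rfl) (by rw [tb_land, hj, ← h3, e]; rfl) h4

theorem exists_mask (f : ℕ → Bool) (n : ℕ) : ∃ m : ℕ, ∀ j < n, m.testBit j = f j :=
  ⟨Nat.ofBits fun i : Fin n => f i, fun j hj => Nat.testBit_ofBits_lt _ j hj⟩

theorem nth_lmap (f : ℕ → ℕ) (L : List ℕ) {k : ℕ} (hk : k < L.length) :
    nth 0 (lmap f L) k = f (nth 0 L k) := by
  induction L generalizing k with
  | nil => simp at hk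
  | cons a L ih =>
    cases k with
    | zero => rfl
    | succ k => exact ih (by simpa using hk)

theorem lmap_length (f : ℕ → ℕ) (L : List ℕ) : (lmap f L).length = L.length := by
  rw [lmap_eq, List.length_map]

end Cfsg.Agent.Spor.RuL
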