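/-
Real coordinates and inner products of vectors in `ℤ[i]²⁸`.
-/
import Cfsg.Agent.Spor.RuL.T0

set_option autoImplicit false

namespace Cfsg.Agent.Spor.RuL

open Finset Cfsg.Spor

theorem pt_ix : ∀ q : RuIdx, pt (ix q) = q := by decide
theorem ix_lt : ∀ q : RuIdx, ix q < 28 := by decide
theorem ix_pt : ∀ j < 28, ix (pt j) = j := by decide

theorem co_lo (v : RuVec) {j : ℕ} (h : j < 28) : co v j = (v (pt j)).re := if_pos h
theorem co_hi (v : RuVec) (j : ℕ) : co v (28 + j) = (v (pt j)).im := by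
  unfold co; rw [if_neg (by omega), Nat.add_sub_cancel_left]

theorem vec_ext {v w : RuVec} (h : ∀ j < 56, co v j = co w j) : v = w := by
  funext q
  have h1 := h (ix q) (by have := ix_lt q; omega)
  have h2 := h (28 + ix q) (by have := ix_lt q; omega)
  rw [co_lo _ (ix_lt q), co_lo _ (ix_lt q), pt_ix] at h1
  rw [co_hi, co_hi, pt_ix] at h2
  exact Zsqrtd.ext h1 h2

/-- a coordinate as an additive map -/
noncomputable def coH (j : ℕ) : RuVec →+ ℤ where
  toFun v := co v j
  map_zero' := by unfold co; split_ifs <;> rfl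
  map_add' v w := by unfold co; split_ifs <;> rfl

theorem co_add (v w : RuVec) (j : ℕ) : co (v + w) j = co v j + co w j := (coH j).map_add v w
theorem co_neg (v : RuVec) (j : ℕ) : co (-v) j = -co v j := (coH j).map_neg v
theorem co_sub (v w : RuVec) (j : ℕ) : co (v - w) j = co v j - co w j := (coH j).map_sub v w
theorem co_zero (j : ℕ) : co 0 j = 0 := (coH j).map_zero
theorem co_smul (c : ℤ) (v : RuVec) (j : ℕ) : co (c • v) j = c * co v j := (coH j).map_zsmul c v
theorem co_sum (s : Finset ℕ) (f : ℕ → RuVec) (j : ℕ) :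
    co (∑ k ∈ s, f k) j = ∑ k ∈ s, co (f k) j := map_sum (coH j) f s

theorem co_gI_lo (v : RuVec) {j : ℕ} (h : j < 28) : co (gI • v) j = -co v (28 + j) := by
  rw [co_lo _ h, co_hi]; simp [gI]
theorem co_gI_hi (v : RuVec) {j : ℕ} (h : j < 28) : co (gI • v) (28 + j) = co v j := by
  rw [co_lo _ h, co_hi]; simp [gI]

theorem co_mk (p n : ℕ) {j : ℕ} (h : j < 56) : co (mk p n) j = sg p n j := by
  by_cases h' : j < 28
  · rw [co_lo _ h']; show sg p n (ix (pt j)) = _; rw [ix_pt j h']
  · obtain ⟨i, rfl⟩ : ∃ i, j = 28 + i := ⟨j - 28, by omega⟩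
    rw [co_hi]; show sg p n (28 + ix (pt i)) = _; rw [ix_pt i (by omega)]

theorem exists_vec (f : ℕ → ℤ) : ∃ v : RuVec, ∀ j < 56, co v j = f j := by
  refine ⟨fun q => ⟨f (ix q), f (28 + ix q)⟩, fun j h => ?_⟩
  by_cases h' : j < 28
  · rw [co_lo _ h']; show f (ix (pt j)) = _; rw [ix_pt j h']
  · obtain ⟨i, rfl⟩ : ∃ i, j = 28 + i := ⟨j - 28, by omega⟩
    rw [co_hi]; show f (28 + ix (pt i)) = _; rw [ix_pt i (by omega)]

theorem lt56 {p : ℕ → Prop} (h1 : ∀ j < 28, p j) (h2 : ∀ j < 28, p (28 + j)) : ∀ j < 56, p j :=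
  fun j hj => if h : j < 28 then h1 j h else by
    obtain ⟨i, rfl⟩ : ∃ i, j = 28 + i := ⟨j - 28, by omega⟩
    exact h2 i (by omega)

theorem gI_mk (p n : ℕ) : gI • mk p n = mk (rt n p) (rt p n) := by
  refine vec_ext (lt56 (fun j hj => ?_) fun j hj => ?_)
  · rw [co_gI_lo _ hj, co_mk _ _ (by omega), co_mk _ _ (by omega)]
    simp only [sg, bt, tb_rt, if_pos hj]; ring
  · rw [co_gI_hi _ hj, co_mk _ _ (by omega), co_mk _ _ (by omega)]
    simp only [sg, bt, tb_rt, if_neg (show ¬ 28 + j < 28 by omega), Nat.add_sub_cancel_left,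
      show 28 + j < 56 by omega, decide_true, Bool.true_and]

theorem neg_mk (p n : ℕ) : -mk p n = mk n p :=
  vec_ext fun j hj => by rw [co_neg, co_mk _ _ hj, co_mk _ _ hj]; unfold sg; ring

theorem gI_gI (v : RuVec) : gI • gI • v = -v := by
  rw [smul_smul, show gI * gI = -1 by decide, neg_smul, one_smul]

theorem gI_pow_four : gI ^ 4 = 1 := by decide

/-- the real inner product -/
noncomputable def dot (v w : RuVec) : ℤ := ∑ j ∈ range 56, co v j * co w j

theorem sum56 (f : ℕ → ℤ) : ∑ j ∈ range 56, f j = ∑ j ∈ range 28, (f j + f (28 + j)) := by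
  rw [show 56 = 28 + 28 from rfl, sum_range_add, sum_add_distrib]

theorem norm_eq (v : RuVec) : ruNorm v = dot v v := by
  unfold ruNorm dot
  rw [sum56]
  refine (sum_nbij' pt ix (fun _ _ => mem_univ _) (fun q _ => mem_range.mpr (ix_lt q))
    (fun j hj => ix_pt j (mem_range.mp hj)) (fun q _ => pt_ix q) fun j hj => ?_).symm
  rw [co_lo _ (mem_range.mp hj), co_hi, Zsqrtd.norm_def]; ring

theorem dot_comm (v w : RuVec) : dot v w = dot w v := sum_congr rfl fun _ _ => mul_comm _ _
theorem dot_add (u v w : RuVec) : dot u (v + w) = dot u v + dot u w := by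
  simp only [dot, co_add, mul_add, sum_add_distrib]
theorem dot_neg (u v : RuVec) : dot u (-v) = -dot u v := by
  simp only [dot, co_neg, mul_neg, sum_neg_distrib]
theorem dot_zero (u : RuVec) : dot u 0 = 0 := by simp only [dot, co_zero, mul_zero, sum_const_zero]
theorem dot_smul (c : ℤ) (u v : RuVec) : dot u (c • v) = c * dot u v := by
  simp only [dot, co_smul, mul_sum]; exact sum_congr rfl fun _ _ => by ring
theorem add_dot (u v w : RuVec) : dot (v + w) u = dot v u + dot w u := by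
  rw [dot_comm, dot_add, dot_comm u, dot_comm u]
theorem neg_dot (u v : RuVec) : dot (-v) u = -dot v u := by rw [dot_comm, dot_neg, dot_comm]
theorem smul_dot (c : ℤ) (u v : RuVec) : dot (c • v) u = c * dot v u := by
  rw [dot_comm, dot_smul, dot_comm]
theorem dot_sum (s : Finset ℕ) (u : RuVec) (f : ℕ → RuVec) :
    dot u (∑ k ∈ s, f k) = ∑ k ∈ s, dot u (f k) := by
  simp only [dot, co_sum, mul_sum]; exact sum_comm
theorem sum_dot (s : Finset ℕ) (u : RuVec) (f : ℕ → RuVec) :
    dot (∑ k ∈ s, f k) u = ∑ k ∈ s, dot (f k) u := by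
  rw [dot_comm, dot_sum]; exact sum_congr rfl fun _ _ => dot_comm _ _

theorem gI_dot (v w : RuVec) : dot (gI • v) w = -dot v (gI • w) := by
  unfold dot
  rw [sum56, sum56, ← sum_neg_distrib]
  refine sum_congr rfl fun j hj => ?_
  have hj := mem_range.mp hj
  rw [co_gI_lo _ hj, co_gI_lo _ hj, co_gI_hi _ hj, co_gI_hi _ hj]; ring

theorem gI_dot_gI (v w : RuVec) : dot (gI • v) (gI • w) = dot v w := by
  rw [gI_dot, gI_gI, dot_neg, neg_neg]

theorem pow_dot (k : ℕ) (v w : RuVec) : dot (gI ^ k • v) (gI ^ k • w) = dot v w := by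
  induction k with
  | zero => simp
  | succ k ih => rw [pow_succ', mul_smul, mul_smul, gI_dot_gI, ih]

theorem dot_nonneg (v : RuVec) : 0 ≤ dot v v := sum_nonneg fun _ _ => mul_self_nonneg _

theorem eq_of_sq {x g : RuVec} (h : ∀ j < 56, co g j * co g j ≤ co x j * co x j)
    (h' : ∀ j < 56, co g j * co g j = co x j * co x j → co x j = co g j)
    (hn : dot x x ≤ dot g g) : x = g := by
  have h1 : ∀ j ∈ range 56, co g j * co g j ≤ co x j * co x j := fun j hj => h j (mem_range.mp hj)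
  exact vec_ext fun j hj => h' j hj ((sum_eq_sum_iff_of_le h1).mp
    (le_antisymm (sum_le_sum h1) hn) j (mem_range.mpr hj))

theorem eq_zero_of_dot {x : RuVec} (h : dot x x = 0) : x = 0 :=
  eq_of_sq (fun j _ => by rw [co_zero]; exact mul_self_nonneg _)
    (fun j _ e => by rw [co_zero] at e ⊢; exact mul_self_eq_zero.mp e.symm)
    (by rw [h, dot_zero])

theorem sg_sq (p n j : ℕ) : sg p n j * sg p n j = bt (Nat.xor p n) j := by
  unfold sg; rw [bt_xor]
  rcases bt_cases p j with h | h <;> rcases bt_cases n j with h' | h' <;> rw [h, h'] <;> rfl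

theorem sg_mod (p n j : ℕ) : (sg p n j - bt (Nat.xor p n) j - 2 * bt (andn n p) j) % 4 = 0 := by
  unfold sg; rw [bt_xor, bt_andn]
  rcases bt_cases p j with h | h <;> rcases bt_cases n j with h' | h' <;> rw [h, h'] <;> rfl

theorem dot_mk (p n : ℕ) : dot (mk p n) (mk p n) = pcn 56 (Nat.xor p n) := by
  rw [pcn_eq]
  exact sum_congr rfl fun j hj => by rw [co_mk _ _ (mem_range.mp hj), sg_sq]

theorem eq_of_mod4 {x : RuVec} {p n : ℕ} (h : ∀ j < 56, (co x j - sg p n j) % 4 = 0)
    (hn : dot x x ≤ pcn 56 (Nat.xor p n)) : x = mk p n := by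
  have h1 : ∀ j, sg p n j = 0 ∨ sg p n j = 1 ∨ sg p n j = -1 := fun j => by
    unfold sg; rcases bt_cases p j with h | h <;> rcases bt_cases n j with h' | h' <;> omega
  refine eq_of_sq (fun j hj => ?_) (fun j hj e => ?_) (by rwa [dot_mk]) <;>
    have h2 := h j hj <;> rw [co_mk _ _ hj] at * <;> rcases h1 j with h3 | h3 | h3 <;>
    rw [h3] at h2 ⊢
  · exact mul_self_nonneg _
  · nlinarith [mul_self_pos.mpr (show co x j ≠ 0 by omega)]
  · nlinarith [mul_self_pos.mpr (show co x j ≠ 0 by omega)]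
  · rw [h3] at e; exact mul_self_eq_zero.mp e.symm
  · rw [h3] at e; rcases mul_self_eq_mul_self_iff.mp e with h4 | h4 <;> omega
  · rw [h3] at e; rcases mul_self_eq_mul_self_iff.mp e with h4 | h4 <;> omega

theorem co_fr {j l : ℕ} (hl : l < 56) : co (fr j) l = if j = l then 4 else 0 := by
  unfold fr
  rw [co_smul, co_mk _ _ hl, sg, bt_zero, bt, tb_shl_one]
  by_cases h : j = l <;> simp [h]

theorem fr_dot {j : ℕ} (hj : j < 56) (v : RuVec) : dot (fr j) v = 4 * co v j := by
  unfold dot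
  rw [sum_eq_single_of_mem j (mem_range.mpr hj) fun l hl e => by
    rw [co_fr (mem_range.mp hl), if_neg e.symm, zero_mul], co_fr hj, if_pos rfl]

theorem four_eq (z : RuVec) : (4 : ℤ) • z = ∑ j ∈ range 56, co z j • fr j :=
  vec_ext fun l hl => by
    rw [co_smul, co_sum, sum_eq_single_of_mem l (mem_range.mpr hl) fun j _ e => by
      rw [co_smul, co_fr hl, if_neg e, mul_zero], co_smul, co_fr hl, if_pos rfl, mul_comm]

theorem four_inj {v w : RuVec} (h : (4 : ℤ) • v = (4 : ℤ) • w) : v = w :=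
  vec_ext fun j _ => by have := congrArg (co · j) h; simp only [co_smul] at this; omega

theorem eqv_sound {v w : RuVec} (h : eqv v w = true) : v = w :=
  vec_ext fun j hj => of_decide_eq_true ((allN_iff _ _).mp h j hj)

theorem mp_add (z : ℕ) (v w : RuVec) : mp z (v + w) = mp z v + mp z w := by
  unfold mp
  split
  · exact smul_add _ _ _
  · funext ⟨n, t⟩; fin_cases t <;> simp [ruRj, mul_add, add_comm]
  · funext ⟨n, t⟩; fin_cases t <;> simp [ruRk, mul_add, add_comm]
  · funext q; simp only [ruSign, Pi.add_apply]; split_ifs <;> ring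
  · rfl

/-- the monomial maps -/
noncomputable def mpH (z : ℕ) : RuVec →+ RuVec := AddMonoidHom.mk' (mp z) (mp_add z)

theorem mp_mem (z : ℕ) {v : RuVec} (h : v ∈ ruLattice) : mp z v ∈ ruLattice := by
  rw [ruLattice, AddSubgroup.mem_sInf] at h ⊢
  intro L hL
  obtain ⟨h0, h1, h2, h3, h4⟩ := hL.2 v (h L hL)
  unfold mp
  split <;> assumption

theorem wordOk_sound (hl : ruTable.length = 20) {e : List ℕ} {v : RuVec} (h : wordOk e v = true) :
    v ∈ ruLattice := by
  unfold wordOk at h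
  rw [band_eq, Bool.and_eq_true, Nat.blt_eq] at h
  rw [← eqv_sound h.2]
  induction tl e with
  | nil =>
    show nth 0 ruTable (hd e) ∈ ruLattice
    rw [ruLattice, AddSubgroup.mem_sInf, nth_eq, List.getD_eq_getElem _ _ (hl ▸ h.1)]
    exact fun L hL => hL.1 _ (List.getElem_mem _)
  | cons z w ih => exact mp_mem z ih

theorem finite_norm (n : ℤ) : {v : RuVec | dot v v = n}.Finite := by
  refine Set.Finite.of_finite_image (f := fun v (j : Fin 56) => co v j)
    ((Set.Finite.pi' fun _ => Set.finite_Icc (-n) n).subset ?_)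
    fun v _ w _ e => vec_ext fun j hj => congrFun e ⟨j, hj⟩
  rintro _ ⟨v, rfl, rfl⟩ j
  have h : co v j * co v j ≤ dot v v :=
    single_le_sum (f := fun j => co v j * co v j) (fun _ _ => mul_self_nonneg _) (mem_range.mpr j.2)
  constructor <;> nlinarith [sq_nonneg (co v j - 1), sq_nonneg (co v j + 1)]

end Cfsg.Agent.Spor.RuL
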