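/-
Generators of the Conway–Wales lattice, inner products and norms.
-/
import Cfsg.Agent.Spor.RuL.T1
import Cfsg.Agent.Spor.RuL.C0

set_option autoImplicit false

namespace Cfsg.Agent.Spor.RuL

open Finset Cfsg.Spor

theorem len : BBP.length = 76 ∧ G.length = 19 ∧ PP.length = 56 ∧ ruTable.length = 20 := by
  have := leqL_sound c_len
  simp only [List.cons.injEq] at this
  exact ⟨this.1, this.2.1, this.2.2.1, this.2.2.2.1⟩

theorem eq2_sound {a b c d : ℕ} (h : eq2 a b c d = true) : c = a ∧ d = b := by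
  unfold eq2 at h
  rwa [band_eq, Bool.and_eq_true, Nat.beq_eq, Nat.beq_eq] at h

theorem wt_sound {n p q s : ℕ} (h : wt n p q s = true) : (pcn n p + pcn n q : ℤ) = s := by
  have : pcn n p + pcn n q = s := Nat.beq_eq.mp h
  omega

theorem tbo {n j : ℕ} (h : j < n) : (ones n).testBit j = true := by
  rw [tb_ones]; exact decide_eq_true h

def M : AddSubgroup RuVec :=
  AddSubgroup.closure ({v | ∃ k < 37, v = bv k} ∪ {v | ∃ z : RuVec, v = (4 : ℤ) • z})

theorem bv_mem {k : ℕ} (hk : k < 37) : bv k ∈ M := AddSubgroup.subset_closure (Or.inl ⟨k, hk, rfl⟩)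
theorem four_mem (z : RuVec) : (4 : ℤ) • z ∈ M := AddSubgroup.subset_closure (Or.inr ⟨z, rfl⟩)

theorem M_ind {p : RuVec → Prop} (hb : ∀ k < 37, p (bv k)) (h4 : ∀ z, p ((4 : ℤ) • z))
    (ha : ∀ x ∈ M, ∀ y ∈ M, p x → p y → p (x + y)) (hn : ∀ x, p x → p (-x)) :
    ∀ x ∈ M, p x := fun x hx => by
  induction hx using AddSubgroup.closure_induction with
  | mem x hx =>
    rcases hx with ⟨k, hk, rfl⟩ | ⟨z, rfl⟩
    exacts [hb k hk, h4 z]
  | zero => simpa using h4 0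
  | add x y hx hy h1 h2 => exact ha x hx y hy h1 h2
  | neg x _ h => exact hn x h

theorem exists_four {v : RuVec} (h : ∀ j < 56, co v j % 4 = 0) : ∃ z, v = (4 : ℤ) • z := by
  obtain ⟨z, hz⟩ := exists_vec fun j => co v j / 4
  exact ⟨z, vec_ext fun j hj => by have := h j hj; rw [co_smul, hz j hj]; omega⟩

theorem mem_of_mod4 {v s : RuVec} (hs : s ∈ M) (h : ∀ j < 56, (co v j - co s j) % 4 = 0) :
    v ∈ M := by
  obtain ⟨z, hz⟩ := exists_four (v := v - s) fun j hj => by rw [co_sub]; exact h j hj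
  rw [sub_eq_iff_eq_add.mp hz]
  exact add_mem (four_mem z) hs

theorem bb_mem {k : ℕ} (hk : k < 76) : mk (nth 0 BBP k) (nth 0 BBN k) ∈ M := by
  have := (allN_iff _ _).mp c_bb k hk
  unfold bbOk at this
  rcases Bool.or_eq_true_iff.mp this with h | h <;> rw [(eq2_sound h).1, (eq2_sound h).2]
  · exact bv_mem (Nat.mod_lt _ (by norm_num))
  · exact mem_of_mod4 (zero_mem _) fun j hj => by rw [co_mk _ _ hj, co_zero, sg]; simp

def Cod (lo hi : ℕ) : Prop :=
  ∀ v, (∀ j < 56, (co v j - bt lo j - 2 * bt hi j) % 4 = 0) → v ∈ M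

theorem cmb_sound {c : ℕ × ℕ} {k : ℕ → ℕ → Bool} (h : cmb c k = true) :
    ∃ lo hi, k lo hi = true ∧ Cod lo hi := by
  unfold cmb at h
  rw [band_eq, Bool.and_eq_true, Nat.beq_eq] at h
  refine ⟨_, _, h.2, fun v hv => mem_of_mod4 (sum_mem fun k hk =>
    zsmul_mem (bb_mem (mem_range.mp hk)) (sg c.1 c.2 k)) fun j hj => ?_⟩
  have h1 := valP_cnt (tbo hj) [] BBP BBN c.1 c.2
  have h2 := hv j hj
  have h3 : (pcn 76 c.1 + pcn 76 c.2) % 4 = 0 := h.1
  rw [bt_valP, bt_valP] at h2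
  rw [len.1, valP_nil] at h1
  simp only [co_sum, co_smul, co_mk _ _ hj]
  omega

theorem codOk_sound {c : ℕ × ℕ} {v : RuVec} (h : cmb c (codOk v) = true) : v ∈ M := by
  obtain ⟨lo, hi, h1, h2⟩ := cmb_sound h
  exact h2 v fun j hj => of_decide_eq_true ((allN_iff _ _).mp h1 j hj)

theorem cod_of {c : ℕ × ℕ} {lo hi : ℕ} (h : cmb c (eq2 lo hi) = true) : Cod lo hi := by
  obtain ⟨_, _, h1, h2⟩ := cmb_sound h
  rwa [(eq2_sound h1).1, (eq2_sound h1).2] at h2

theorem mem2_sound {c : ℕ × ℕ} {p n : ℕ} (h : mem2 c p n = true) : mk p n ∈ M :=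
  cod_of h _ fun j hj => by rw [co_mk _ _ hj]; exact sg_mod p n j

theorem mp_M {z : ℕ} (hz : z < 5) : ∀ v ∈ M, mp z v ∈ M :=
  M_ind (fun k hk => codOk_sound ((allN_iff _ _).mp ((allN_iff _ _).mp c_cl z hz) k hk))
    (fun x => show mpH z _ ∈ M from (mpH z).map_zsmul 4 x ▸ four_mem _)
    (fun x _ y _ h1 h2 => (mp_add z x y).symm ▸ add_mem h1 h2)
    (fun x h => show mpH z _ ∈ M from (mpH z).map_neg x ▸ neg_mem h)

theorem fr_mem {j : ℕ} (hj : j < 56) : fr j ∈ ruLattice :=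
  wordOk_sound len.2.2.2 ((allN_iff _ _).mp c_wf j hj)

theorem lat_eq : ruLattice = M := by
  refine le_antisymm (sInf_le ⟨fun v hv => ?_, fun v hv => ⟨mp_M (z := 0) (by norm_num) v hv,
    mp_M (z := 1) (by norm_num) v hv, mp_M (z := 2) (by norm_num) v hv,
    mp_M (z := 3) (by norm_num) v hv, mp_M (z := 4) (by norm_num) v hv⟩⟩) ?_
  · obtain ⟨t, ht, rfl⟩ := List.getElem_of_mem hv
    have := codOk_sound ((allN_iff _ _).mp c_tab t (len.2.2.2 ▸ ht))
    rwa [nth_eq, List.getD_eq_getElem _ _ ht] at this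
  · exact M_ind (fun k hk => wordOk_sound len.2.2.2 ((allN_iff _ _).mp c_wb k hk))
      (fun z => four_eq z ▸ sum_mem fun j hj => zsmul_mem (fr_mem (mem_range.mp hj)) _)
      (fun _ _ _ _ => add_mem) fun _ => neg_mem

theorem valP_tr {o l : ℕ} (ho : o.testBit l = true) (AP AN : List ℕ) (p n : ℕ) :
    (valP (cnt o [] (tr AP) (tr AN) p n) l : ℤ) =
      dot (mk p n) (mk (nth 0 AP l) (nth 0 AN l)) + (pcn 56 p + pcn 56 n) := by
  rw [valP_cnt ho, tr_length, valP_nil, Nat.cast_zero, zero_add]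
  congr 1
  refine sum_congr rfl fun j hj => ?_
  have hj := mem_range.mp hj
  simp only [co_mk _ _ hj, sg, bt_tr _ hj]

theorem valP_B {l : ℕ} (hl : l < 37) (p n : ℕ) :
    (valP (cnt (ones 37) [] BTP BTN p n) l : ℤ) = dot (mk p n) (bv l) + (pcn 56 p + pcn 56 n) := by
  rw [leqL_sound c_btp, leqL_sound c_btn]; exact valP_tr (tbo hl) _ _ _ _

theorem gram {k : ℕ} (hk : k < 37) : wt 56 (nth 0 BP k) (nth 0 BN k) 16 = true ∧
    dot (bv k) (bv k) = 16 ∧ ∀ l < 37, dot (bv k) (bv l) % 4 = 0 := by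
  have h := (allN_iff _ _).mp c_gram k hk
  unfold gramOk gram2 at h
  rw [band_eq, band_eq, Bool.and_eq_true, Bool.and_eq_true, Nat.beq_eq] at h
  refine ⟨h.1, (dot_mk _ _).trans (by rw [h.2.1]; rfl), fun l hl => ?_⟩
  have h1 := valP_B hl (nth 0 BP k) (nth 0 BN k)
  have h2 := bt_valP (cnt (ones 37) [] BTP BTN (nth 0 BP k) (nth 0 BN k)) l 0
  have h3 := bt_valP (cnt (ones 37) [] BTP BTN (nth 0 BP k) (nth 0 BN k)) l 1
  rw [(eq2_sound h.2.2).1, bt_zero] at h2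
  rw [(eq2_sound h.2.2).2, bt_zero] at h3
  rw [wt_sound h.1] at h1
  change _ = dot (bv k) (bv l) + _ at h1
  omega

theorem dot_ind {y : RuVec} (h : ∀ k < 37, dot (bv k) y % 4 = 0) : ∀ x ∈ M, dot x y % 4 = 0 :=
  M_ind h (fun z => by rw [smul_dot]; omega) (fun _ _ _ _ h1 h2 => by rw [add_dot]; omega)
    fun _ h => by rw [neg_dot]; omega

theorem dot_mod {x y : RuVec} (hx : x ∈ M) (hy : y ∈ M) : dot x y % 4 = 0 :=
  dot_ind (fun k hk => dot_comm _ _ ▸ dot_ind (fun l hl => (gram hl).2.2 k hk) y hy) x hx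

theorem norm_mod : ∀ x ∈ M, dot x x % 8 = 0 :=
  M_ind (fun k hk => by rw [(gram hk).2.1]; rfl) (fun z => by rw [smul_dot, dot_smul]; omega)
    (fun x hx y hy h1 h2 => by
      have := dot_mod hx hy
      rw [add_dot, dot_add, dot_add, dot_comm y x]; omega)
    fun _ h => by rw [neg_dot, dot_neg]; omega

end Cfsg.Agent.Spor.RuL
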