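/-
The short vectors of the Conway–Wales lattice.
-/
import Cfsg.Agent.Spor.RuL.T2
import Cfsg.Agent.Spor.RuL.C1
import Cfsg.Agent.Spor.RuL.C5

set_option autoImplicit false

namespace Cfsg.Agent.Spor.RuL

open Finset Cfsg.Spor

theorem xs_xor (L : List ℕ) (a b v : ℕ) :
    (bt (xs L (Nat.xor a b)) v - bt (xs L a) v - bt (xs L b) v) % 2 = 0 := by
  have h1 := bt_xs L (Nat.xor a b) v
  have h2 := bt_xs L a v
  have h3 := bt_xs L b v
  simp only [bt_xor, sub_mul, add_mul, sum_sub_distrib, sum_add_distrib, mul_assoc, ← mul_sum] at h1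
  omega

theorem pcn_zero (n : ℕ) : pcn n 0 = 0 := by
  have := pcn_eq n 0
  simp only [bt_zero, sum_const_zero] at this
  omega

theorem res_msg : ∀ x ∈ M, ∃ m < 2 ^ 19, ∀ j < 56, (co x j - bt (xs G m) j) % 2 = 0 := by
  refine M_ind (fun k hk => ?_) (fun z => ⟨0, by norm_num, fun j _ => ?_⟩) ?_ ?_
  · have h := (allN_iff _ _).mp c_msg k hk
    unfold msgOk at h
    rw [band_eq, Bool.and_eq_true, Nat.beq_eq, Nat.blt_eq] at h
    refine ⟨_, h.1, fun j hj => ?_⟩
    have := sg_mod (nth 0 BP k) (nth 0 BN k) j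
    rw [h.2, bv, co_mk _ _ hj]; omega
  · rw [xs_zero _ (pcn_zero _), co_smul, bt_zero]; omega
  · rintro x - y - ⟨m, hm, h⟩ ⟨m', hm', h'⟩
    refine ⟨Nat.xor m m', Nat.xor_lt_two_pow hm hm', fun j hj => ?_⟩
    have := xs_xor G m m' j
    have := h j hj
    have := h' j hj
    rw [co_add]; omega
  · rintro x ⟨m, hm, h⟩
    refine ⟨m, hm, fun j hj => ?_⟩
    have := h j hj
    rw [co_neg]; omega

/-- the vector has the given residues modulo four -/
def Res (x : RuVec) (r h : ℕ) : Prop := ∀ j < 56, (co x j - bt r j - 2 * bt h j) % 4 = 0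

theorem exists_res {x : RuVec} {r : ℕ} (hr : ∀ j < 56, (co x j - bt r j) % 2 = 0) :
    ∃ h, Res x r h := by
  obtain ⟨h, hh⟩ := exists_mask (fun j => decide ((co x j - bt r j) % 4 = 2)) 56
  refine ⟨h, fun j hj => ?_⟩
  have := hr j hj
  rw [bt.eq_1 h, hh j hj]
  split_ifs with e <;> simp only [decide_eq_true_eq] at e <;> omega

theorem Res.le {x : RuVec} {r h : ℕ} (hr : Res x r h) :
    (pcn 56 r + 4 * pcn 56 (andn h r) : ℤ) ≤ dot x x := by
  rw [pcn_eq, pcn_eq, mul_sum, ← sum_add_distrib]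
  refine sum_le_sum fun j hj => ?_
  have := hr j (mem_range.mp hj)
  rw [bt_andn]
  rcases bt_cases r j with e | e <;> rcases bt_cases h j with e' | e' <;> rw [e, e'] at this ⊢
  · exact mul_self_nonneg _
  · rcases (show co x j ≤ -2 ∨ 2 ≤ co x j by omega) with h | h <;> nlinarith
  · nlinarith [mul_self_pos.mpr (show co x j ≠ 0 by omega)]
  · nlinarith [mul_self_pos.mpr (show co x j ≠ 0 by omega)]

theorem tb_mskE {H : List (List ℕ)} {m : ℕ} (h : (mskE H).testBit m = true) :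
    ∃ e ∈ H, hd e = m := by
  induction H with
  | nil => exact absurd h (by show ¬ (0 : ℕ).testBit m = true; simp)
  | cons e H ih =>
    have h' : (Nat.lor (Nat.shiftLeft 1 (hd e)) (mskE H)).testBit m = true := h
    rw [tb_lor, Bool.or_eq_true, tb_shl_one, decide_eq_true_eq] at h'
    rcases h' with h' | h'
    · exact ⟨e, List.mem_cons_self, h'⟩
    · obtain ⟨e', h1, h2⟩ := ih h'
      exact ⟨e', List.mem_cons_of_mem _ h1, h2⟩

theorem tb_mskH {HH : List (List (List ℕ))} {m : ℕ} (h : (mskH HH).testBit m = true) :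
    ∃ H ∈ HH, ∃ e ∈ H, hd e = m := by
  induction HH with
  | nil => exact absurd h (by show ¬ (0 : ℕ).testBit m = true; simp)
  | cons H HH ih =>
    have h' : (Nat.lor (mskE H) (mskH HH)).testBit m = true := h
    rw [tb_lor, Bool.or_eq_true] at h'
    rcases h' with h' | h'
    · exact ⟨H, List.mem_cons_self, tb_mskE h'⟩
    · obtain ⟨e', h1, h2⟩ := ih h'
      exact ⟨e', List.mem_cons_of_mem _ h1, h2⟩

theorem col_eq : COL = tr G := leqL_sound c_col
theorem col_len : COL.length = 56 := col_eq ▸ tr_length G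
theorem bt_col {j : ℕ} (hj : j < 56) (k : ℕ) : bt (nth 0 COL j) k = bt (nth 0 G k) j :=
  col_eq ▸ bt_tr G hj k

theorem tb_lowM {o m : ℕ} (ho : o.testBit m = true) (hm : m < 2 ^ 19) (h : pcn 56 (xs G m) ≤ 16) :
    (lowM o).testBit m = true := by
  have h1 := valP_sumP [o, o, o, o, 0, o] (lmap (xs (idpls 19 19 0)) COL) m
  have h2 : valP [o, o, o, o, 0, o] m = 47 := by simp [valP, ho]
  rw [lmap_length, col_len, h2, sum_congr rfl (g := fun j => bt (xs G m) j) fun j hj => ?_,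
    ← pcn_eq] at h1
  · unfold lowM
    rw [tb_andn, ho, ← tb_valP, Nat.testBit_lt_two_pow (by omega)]; rfl
  · have hj := mem_range.mp hj
    have h3 := bt_xs (idpls 19 19 0) (nth 0 COL j) m
    have h4 := bt_xs G m j
    rw [idpls_length, sum_congr rfl (g := fun k => bt m k * bt (nth 0 G k) j) fun k hk => by
      rw [bt_col hj, bt_congr (tb_idpls (mem_range.mp hk) hm), mul_comm]] at h3
    rw [len.2.1] at h4
    rw [nth_lmap _ _ (col_len ▸ hj)]
    exact bt_congr (tb_of_bt (by omega))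

theorem low {m : ℕ} (hm : m < 2 ^ 19) (h : pcn 56 (xs G m) ≤ 16) :
    m = 0 ∨ (∃ e ∈ H8, hd e = m) ∨ ∃ H ∈ HH, ∃ e ∈ H, hd e = m := by
  have := (sub_iff _ _).mp c_res m (tb_lowM (tbo hm) hm h)
  rw [tb_lor, tb_lor, Bool.or_eq_true, Bool.or_eq_true, Nat.testBit_one_eq_true_iff_self_eq_zero]
    at this
  exact this.imp id (Or.imp tb_mskE tb_mskH)

theorem Res.key {x : RuVec} {r h : ℕ} (hr : Res x r h) (hx : x ∈ M) {k : ℕ} (hk : k < 19) :
    (dot (mk r 0) (bv k) + 2 * ∑ j ∈ range 56, bt h j * bt (nth 0 G k) j) % 4 = 0 := by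
  obtain ⟨z, hz⟩ := exists_four (v := x - mk r 0 - (2 : ℤ) • mk h 0) fun j hj => by
    rw [co_sub, co_sub, co_smul, co_mk _ _ hj, co_mk _ _ hj, sg, sg, bt_zero, sub_zero, sub_zero]
    exact hr j hj
  have h1 := dot_mod hx (bv_mem (k := k) (by omega))
  rw [show x = mk r 0 + ((2 : ℤ) • mk h 0 + (4 : ℤ) • z) by rw [← hz]; abel, add_dot, add_dot,
    smul_dot, smul_dot] at h1
  have h2 : dot (mk h 0) (bv k) = ∑ j ∈ range 56, bt h j * bt (nth 0 G k) j -
      2 * ∑ j ∈ range 56, bt h j * bt (andn (nth 0 BN k) (nth 0 BP k)) j := by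
    rw [mul_sum, ← sum_sub_distrib, Nat.beq_eq.mp ((allN_iff _ _).mp c_g k hk)]
    refine sum_congr rfl fun j hj => ?_
    rw [bv, co_mk _ _ (mem_range.mp hj), co_mk _ _ (mem_range.mp hj), sg, sg, bt_zero, bt_xor,
      bt_andn]
    ring
  omega

theorem resOk_sound {K s r : ℕ} {hs : List ℕ} (hc : resOk K s r hs = true) {x : RuVec} {h : ℕ}
    (hr : Res x r h) (hx : x ∈ M) (hK : K % 4 = 0) (hle : pcn 56 (andn h r) ≤ s) :
    (hintY r hs).testBit (cmp 56 r h) = true := by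
  unfold resOk res2 at hc
  rw [band_eq, Bool.and_eq_true, Nat.beq_eq] at hc
  obtain ⟨rfl, hc⟩ := hc
  refine (sub_iff _ _).mp (subs_sound hc (h := andn h r) (col_len ▸ hle)) _
    (tb_sel (tbo (shl_one _ ▸ cmp_lt _ _ _)) _ _ fun k hk => ?_)
  rw [lmap_length] at hk
  rw [nth_lmap _ _ hk]
  rw [len.2.1] at hk
  have h1 := bt_xs (spr 56 r (idpls (pcn 56 r) (pcn 56 r) 0)) (nth 0 G k) (cmp 56 r h)
  have h2 := bt_xs COL (andn h r) k
  have h3 := hr.key hx hk
  have h4 := valP_B (l := k) (by omega) r 0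
  have h5 := bt_valP (cnt (ones 37) [] BTP BTN r 0) k 1
  rw [spr_length, sum_congr rfl (g := fun j => bt h j * bt r j * bt (nth 0 G k) j) fun j hj => by
    rw [bt.eq_1 (nth 0 (spr _ _ _) j), tb_spr' (mem_range.mp hj), bt.eq_1 h, bt.eq_1 r]
    cases r.testBit j <;> cases h.testBit j <;> simp] at h1
  rw [col_len, sum_congr rfl (g := fun j => bt h j * bt (nth 0 G k) j -
    bt h j * bt r j * bt (nth 0 G k) j) fun j hj => by
      rw [bt_col (mem_range.mp hj), bt_andn]; ring, sum_sub_distrib] at h2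
  rw [pcn_zero] at h4
  refine tb_of_bt ?_
  rw [bt_xor]
  omega

theorem tb_hintY {r s : ℕ} {hs : List ℕ} (h : (hintY r hs).testBit s = true) :
    ∃ c, hf c < 4060 ∧ FA.testBit (hf c) = false ∧ Nat.xor (vP c) (vN c) = r ∧
      (cmp 56 r (vN c) = s ∨ cmp 56 r (vP c) = s) := by
  induction hs with
  | nil => exact absurd h (by show ¬ (0 : ℕ).testBit s = true; simp)
  | cons c hs ih =>
    have h' : (hy r c (vP c) (vN c) (hintY r hs)).testBit s = true := h
    unfold hy at h'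
    rw [brec_eq] at h'
    split_ifs at h' with e
    · rw [tb_lor, tb_lor, Bool.or_eq_true, Bool.or_eq_true, tb_shl_one, tb_shl_one,
        decide_eq_true_eq, decide_eq_true_eq] at h'
      rw [band_eq, band_eq, Bool.and_eq_true, Bool.and_eq_true, Nat.beq_eq, Nat.blt_eq, evn_eq,
        tb_shr, Bool.not_eq_true'] at e
      exact h'.elim (fun h => ⟨c, e.1, e.2.1, e.2.2, h⟩) ih
    · exact ih h'

/-- the chosen vector on a line -/
noncomputable def vec (i : ℕ) : RuVec :=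
  (if FA.testBit i then (4 : ℤ) else 1) • mk (rd PP i) (rd NP i)

def OnL (x : RuVec) (i : ℕ) : Prop := i < 4060 ∧ ∃ k : ℕ, x = gI ^ k • vec i

theorem OnL.gI {x : RuVec} {i : ℕ} (h : OnL x i) : OnL (gI • x) i :=
  ⟨h.1, h.2.elim fun k e => ⟨k + 1, by rw [e, pow_succ', mul_smul]⟩⟩

theorem OnL.neg {x : RuVec} {i : ℕ} (h : OnL x i) : OnL (-x) i := gI_gI x ▸ h.gI.gI

theorem mk_v (c : ℕ) : ∃ k : ℕ, mk (vP c) (vN c) = gI ^ k • mk (rd PP (hf c)) (rd NP (hf c)) := by
  unfold vP vN rotP rotN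
  cases evn c
  · exact ⟨1, by rw [pow_one, gI_mk]⟩
  · exact ⟨0, by rw [pow_zero, one_smul]⟩

theorem pcn_eq_zero {n g : ℕ} (h : pcn n g = 0) {j : ℕ} (hj : j < n) : g.testBit j = false := by
  have h1 := pcn_eq n g
  have h2 : bt g j ≤ ∑ k ∈ range n, bt g k := single_le_sum (f := fun k => bt g k)
    (fun k _ => by rcases bt_cases g k with h | h <;> omega) (mem_range.mpr hj)
  cases e : g.testBit j
  · rfl
  · rw [bt, e] at h2; simp at h2; omega

theorem Res.eq {x : RuVec} {h p n : ℕ} (hr : Res x (Nat.xor p n) h)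
    (h0 : pcn 56 (andn h (Nat.xor p n)) = 0)
    (e : cmp 56 (Nat.xor p n) n = cmp 56 (Nat.xor p n) h)
    (hn : dot x x ≤ pcn 56 (Nat.xor p n)) : x = mk p n := by
  refine eq_of_mod4 (fun j hj => ?_) hn
  have h1 := hr j hj
  have h2 := pcn_eq_zero h0 hj
  have h3 := cmp_inj e hj
  unfold sg
  unfold bt at h1 ⊢
  rw [tb_andn] at h2
  rw [tb_xor] at h1 h2 h3
  revert h1 h2 h3
  cases p.testBit j <;> cases n.testBit j <;> cases h.testBit j <;> simp <;> omega

theorem onL_fr {j : ℕ} (hj : j < 56) : ∃ i, OnL (fr j) i := by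
  have h := (allN_iff _ _).mp c_fr j hj
  unfold frOk frOk2 at h
  rw [band_eq, band_eq, Bool.and_eq_true, Bool.and_eq_true, Nat.blt_eq] at h
  obtain ⟨k, e⟩ := mk_v (nth 0 HF j)
  rw [(eq2_sound h.2.2).1, (eq2_sound h.2.2).2] at e
  exact ⟨_, h.1, k, by rw [vec, if_pos h.2.1, smul_comm, ← e]; rfl⟩

theorem allR_sound {g : ℕ → Bool} {a n : ℕ} (h : allR g a n = true) {k : ℕ} (h1 : a ≤ k)
    (h2 : k < a + n) : g k = true := by
  obtain ⟨i, rfl⟩ := Nat.exists_eq_add_of_le h1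
  exact (allN_iff _ _).mp h i (by omega)

theorem r0 : subs leaf0 COL 4 0 = true := by
  refine subs_of rfl fun k hk => ?_
  rw [col_len] at hk
  show r0k k = true
  rcases (show k < 2 ∨ 2 ≤ k ∧ k < 4 ∨ 4 ≤ k ∧ k < 7 ∨ 7 ≤ k ∧ k < 10 ∨ 10 ≤ k ∧ k < 14 ∨
    14 ≤ k ∧ k < 20 ∨ 20 ≤ k by omega) with h | h | h | h | h | h | h
  exacts [allR_sound c_r0 (Nat.zero_le _) h, allR_sound c_r2 h.1 h.2, allR_sound c_r4 h.1 h.2,
    allR_sound c_r7 h.1 h.2, allR_sound c_r10 h.1 h.2, allR_sound c_r14 h.1 h.2,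
    allR_sound c_r20 h hk]

theorem fr_norm {j : ℕ} (hj : j < 56) : dot (fr j) (fr j) = 16 := by
  rw [fr_dot hj, co_fr hj, if_pos rfl]; rfl

theorem eq_fr {y : RuVec} {j : ℕ} (hj : j < 56) (h9 : 4 ≤ co y j) (h10 : dot y y ≤ 16) :
    y = fr j := by
  refine eq_of_sq (fun l hl => ?_) (fun l hl e => ?_) (by rwa [fr_norm hj])
  · rw [co_fr hl]
    split_ifs with e'
    · rw [← e']; nlinarith
    · exact mul_self_nonneg _
  · rw [co_fr hl] at e ⊢
    split_ifs at e ⊢ with e'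
    · rw [← e'] at e ⊢; nlinarith
    · exact mul_self_eq_zero.mp e.symm

theorem Res.zero {x : RuVec} {h : ℕ} (hr : Res x 0 h) (hx : x ∈ M) (hn : dot x x ≤ 16) :
    x = 0 ∨ ∃ j < 56, x = fr j ∨ x = -fr j := by
  have h1 := hr.le
  have e : andn h 0 = h := Nat.eq_of_testBit_eq fun i => by simp [tb_andn]
  rw [e, pcn_zero] at h1
  have h2 := subs_sound r0 (h := h) (by rw [col_len]; omega)
  have h3 : xs COL h = 0 := Nat.eq_of_testBit_eq fun k => by
    have h4 := bt_xs COL h k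
    rw [col_len, sum_congr rfl fun j hj => by rw [bt_col (mem_range.mp hj)]] at h4
    refine tb_of_bt ?_
    rw [bt_zero]
    by_cases hk : k < 19
    · have h5 := hr.key hx hk
      rw [show mk 0 0 = 0 from vec_ext fun j hj => by rw [co_mk _ _ hj, co_zero, sg, sub_self],
        dot_comm, dot_zero] at h5
      omega
    · rw [nth_eq, List.getD_eq_default _ _ (by rw [len.2.1]; omega)] at h4
      simp only [bt_zero, mul_zero, sum_const_zero] at h4
      omega
  rw [h3, col_len] at h2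
  have h4 : 4 - pcn 56 h = 4 := Nat.beq_eq.mp h2
  have h5 : ∀ j < 56, co x j % 4 = 0 := fun j hj => by
    have := hr j hj
    rw [bt_zero, bt, pcn_eq_zero (n := 56) (by omega) hj] at this
    simpa using this
  by_cases h6 : ∀ j < 56, co x j = 0
  · exact Or.inl (vec_ext fun j hj => by rw [h6 j hj, co_zero])
  · push Not at h6
    obtain ⟨j, hj, h7⟩ := h6
    have h8 := h5 j hj
    have key := fun y => eq_fr (y := y) hj
    refine Or.inr ⟨j, hj, ?_⟩
    rcases (show 4 ≤ co x j ∨ 4 ≤ -co x j by omega) with h9 | h9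
    · exact Or.inl (key x h9 hn)
    · exact Or.inr (neg_eq_iff_eq_neg.mp (key (-x) (by rwa [co_neg]) (by
        rwa [neg_dot, dot_neg, neg_neg])))

theorem enum {x : RuVec} (hx : x ∈ M) (hn : dot x x ≤ 16) :
    x = 0 ∨ dot x x = 16 ∧ ∃ i, OnL x i := by
  obtain ⟨m, hm, hr⟩ := res_msg x hx
  obtain ⟨h, hr⟩ := exists_res hr
  have h1 := hr.le
  rcases low hm (by omega) with rfl | ⟨e, he, rfl⟩ | ⟨H, hH, e, he, rfl⟩
  · rw [xs_zero _ (pcn_zero _)] at hr
    refine (hr.zero hx hn).imp id ?_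
    rintro ⟨j, hj, rfl | rfl⟩
    · exact ⟨fr_norm hj, onL_fr hj⟩
    · exact ⟨by rw [neg_dot, dot_neg, neg_neg, fr_norm hj], (onL_fr hj).imp fun _ h => h.neg⟩
  · have hc := (lall_iff _ _).mp c_w8 e he
    have h2 : pcn 56 (xs G (hd e)) = 8 := by
      unfold resOk at hc
      rw [band_eq, Bool.and_eq_true, Nat.beq_eq] at hc
      exact hc.1
    have h3 := resOk_sound hc hr hx rfl (by omega)
    rw [(by decide : ∀ e ∈ H8, tl e = []) e he] at h3
    exact absurd h3 (by show ¬ (0 : ℕ).testBit _ = true; simp)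
  · have hc := (lall_iff _ _).mp (c_hh.forall H hH) e he
    have h2 : pcn 56 (xs G (hd e)) = 16 := by
      unfold resOk at hc
      rw [band_eq, Bool.and_eq_true, Nat.beq_eq] at hc
      exact hc.1
    obtain ⟨c, c1, c2, c3, c4⟩ := tb_hintY (resOk_sound hc hr hx rfl (by omega))
    obtain ⟨k, e'⟩ := mk_v c
    have h3 : OnL (mk (vP c) (vN c)) (hf c) :=
      ⟨c1, k, by rw [vec, if_neg (by rw [c2]; simp), one_smul, e']⟩
    refine Or.inr ⟨by omega, hf c, ?_⟩
    rw [← c3] at hr h1 h2 c4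
    rcases c4 with c4 | c4
    · rwa [hr.eq (by omega) c4 (by omega)]
    · rw [show Nat.xor (vP c) (vN c) = Nat.xor (vN c) (vP c) from Nat.xor_comm _ _] at hr h1 h2 c4
      rw [hr.eq (by omega) c4 (by omega), ← neg_mk]
      exact h3.neg

end Cfsg.Agent.Spor.RuL
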