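/-
Automorphisms of the Conway–Wales lattice and their action on the lines of minimal vectors.
-/
import Cfsg.Agent.Spor.RuL.T3
import Cfsg.Agent.Spor.Orb

set_option autoImplicit false

namespace Cfsg.Agent.Spor.RuL

open Finset Cfsg.Spor

theorem memM (x : ruLattice) : (x : RuVec) ∈ M := lat_eq ▸ x.2
theorem memL {x : RuVec} (h : x ∈ M) : x ∈ ruLattice := lat_eq ▸ h
theorem gI_M {x : RuVec} (h : x ∈ M) : gI • x ∈ M := mp_M (z := 0) (by norm_num) x h
theorem pow_M (k : ℕ) {x : RuVec} (h : x ∈ M) : gI ^ k • x ∈ M := by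
  induction k with
  | zero => simpa using h
  | succ k ih => rw [pow_succ', mul_smul]; exact gI_M ih

theorem pow_inv {x y : RuVec} {k : ℕ} (h : x = gI ^ k • y) : y = gI ^ (3 * k) • x := by
  rw [h, smul_smul, ← pow_add, show 3 * k + k = 4 * k by ring, pow_mul, gI_pow_four, one_pow,
    one_smul]

theorem OnL.mem {x : RuVec} {i : ℕ} (h : OnL x i) (hx : x ∈ M) : vec i ∈ M := by
  obtain ⟨-, k, e⟩ := h
  rw [pow_inv e]; exact pow_M _ hx

theorem OnL.pow {x : RuVec} {i : ℕ} (h : OnL x i) (k : ℕ) : OnL (Cfsg.Spor.gI ^ k • x) i := by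
  induction k with
  | zero => simpa using h
  | succ k ih => rw [pow_succ', mul_smul]; exact ih.gI

theorem OnL.eq {x y : RuVec} {i : ℕ} (h : OnL x i) (h' : OnL y i) :
    ∃ k : ℕ, x = Cfsg.Spor.gI ^ k • y := by
  obtain ⟨-, k, e⟩ := h
  obtain ⟨-, l, e'⟩ := h'
  exact ⟨k + 3 * l, by rw [e, pow_add, mul_smul, ← pow_inv e']⟩

/-- the Hermitian product is divisible by `4 (1 + i)` -/
def Rel (x y : RuVec) : Prop := (dot x y + dot x (gI • y)) % 8 = 0

theorem rel_pow (k : ℕ) {x y : RuVec} (hx : x ∈ M) (hy : y ∈ M) : Rel (gI ^ k • x) y ↔ Rel x y := by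
  induction k with
  | zero => simp
  | succ k ih =>
    rw [← ih, pow_succ', mul_smul]
    have := dot_mod (pow_M k hx) (gI_M hy)
    unfold Rel
    rw [gI_dot_gI, gI_dot]
    omega

theorem rel_pow' (k : ℕ) {x y : RuVec} (hx : x ∈ M) (hy : y ∈ M) :
    Rel x (gI ^ k • y) ↔ Rel x y := by
  induction k with
  | zero => simp
  | succ k ih =>
    rw [← ih, pow_succ', mul_smul]
    have := dot_mod hx (pow_M k hy)
    unfold Rel
    rw [gI_gI, dot_neg]
    omega

theorem valP_rd {o i : ℕ} (ho : o.testBit i = true) (C0 : List ℕ) (p n : ℕ) :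
    (valP (cnt o C0 PP NP p n) i : ℤ) =
      valP C0 i + dot (mk (rd PP i) (rd NP i)) (mk p n) + (pcn 56 p + pcn 56 n) := by
  rw [valP_cnt ho, len.2.2.1, add_left_inj, add_right_inj]
  refine sum_congr rfl fun j hj => ?_
  have hj := mem_range.mp hj
  simp only [co_mk _ _ hj, sg, bt, tb_rd, mul_comm]

theorem OnL.rel {x : RuVec} {i p n : ℕ} (h : OnL x i) (hx : x ∈ M) (hy : mk p n ∈ M)
    (hw : w32 p n = true) : Rel x (mk p n) ↔ (bpl p n).testBit i = false := by
  have hv := h.mem hx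
  obtain ⟨hi, k, rfl⟩ := h
  rw [rel_pow k hv hy]
  unfold w32 at hw
  rw [band_eq, Bool.and_eq_true] at hw
  have h1 := valP_rd (tbo hi) (cnt (ones 4060) [] PP NP p n) (rt n p) (rt p n)
  rw [valP_rd (tbo hi) [], valP_nil, wt_sound hw.1, wt_sound hw.2, ← gI_mk] at h1
  have h2 := dot_mod hv hy
  have h3 := dot_mod hv (gI_M hy)
  unfold Rel bpl bp2
  rw [tb_lor, tb_andn, tb_land, ← tb_valP, ← tb_valP, Nat.testBit_eq_decide_div_mod_eq,
    Nat.testBit_eq_decide_div_mod_eq (i := 0)]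
  unfold vec at h2 h3 ⊢
  rw [smul_dot] at h2 h3
  rw [smul_dot, smul_dot]
  generalize valP _ i = s at h1
  revert h2 h3
  cases FA.testBit i <;> simp <;> omega

theorem yb {k : ℕ} (hk : k < 37) {x : RuVec} {i : ℕ} (h : OnL x i) (hx : x ∈ M) :
    Rel x (bv k) ↔ (nth 0 YB k).testBit i = false := by
  have hc := (allN_iff _ _).mp c_yb k hk
  unfold ybOk at hc
  rw [band_eq, Bool.and_eq_true, Nat.beq_eq] at hc
  rw [← hc.2]
  exact h.rel hx (bv_mem hk) hc.1

theorem sep {i j : ℕ} (hi : i < 4060) (hj : j < 4060)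
    (h : ∀ k < 37, (nth 0 YB k).testBit i = (nth 0 YB k).testBit j) : i = j := by
  refine sepM_sound' c_sep (tbo hi) (tbo hj) fun Y hY => ?_
  obtain ⟨k, hk, rfl⟩ := List.getElem_of_mem hY
  have := h k hk
  rwa [nth_eq, List.getD_eq_getElem _ _ hk] at this

theorem OnL.uniq {x : RuVec} {i j : ℕ} (h : OnL x i) (h' : OnL x j) (hx : x ∈ M) : i = j :=
  sep h.1 h'.1 fun k hk => by
    rw [Bool.eq_iff_iff, ← Bool.not_eq_false, ← Bool.not_eq_false, ← yb hk h hx, ← yb hk h' hx]

section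
variable {f : Equiv.Perm ruLattice} (hf : f ∈ fourRu)
include hf

theorem f_norm (x : ruLattice) : dot (f x) (f x) = dot x x := by
  rw [← norm_eq, ← norm_eq]; exact hf.2.2 x

theorem f_dot (x y : ruLattice) : dot (f x) (f y) = dot x y := by
  have h := f_norm hf (x + y)
  rw [hf.1, AddSubgroup.coe_add, AddSubgroup.coe_add, add_dot, add_dot, dot_add, dot_add, dot_add,
    dot_add, f_norm hf, f_norm hf, dot_comm (f y).1 (f x).1, dot_comm y.1 x.1] at h
  omega

theorem f_gI {x y : ruLattice} (h : x.1 = gI • y.1) : (f x).1 = gI • (f y).1 := by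
  rw [show x = ruI y from Subtype.ext h, hf.2.1]; rfl

theorem f_pow {k : ℕ} {x y : ruLattice} (h : x.1 = gI ^ k • y.1) : (f x).1 = gI ^ k • (f y).1 := by
  induction k generalizing x with
  | zero => rw [pow_zero, one_smul] at h ⊢; rw [Subtype.ext h]
  | succ k ih =>
    rw [pow_succ', mul_smul] at h ⊢
    rw [f_gI hf (y := ⟨_, memL (pow_M k (memM y))⟩) h, ih rfl]

theorem f_rel (x y : ruLattice) : Rel (f x) (f y) ↔ Rel x y := by
  unfold Rel
  rw [← f_gI hf (x := ruI y) rfl, f_dot hf, f_dot hf]; rfl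

end

/-- the map given by the images of the coordinate vectors -/
noncomputable def FA' (A : ℕ → RuVec) : RuVec →+ RuVec where
  toFun v := ∑ j ∈ range 56, co v j • A j
  map_zero' := by simp [co_zero]
  map_add' v w := by simp only [co_add, add_smul, sum_add_distrib]

theorem FA'_apply (A : ℕ → RuVec) (v : RuVec) : FA' A v = ∑ j ∈ range 56, co v j • A j := rfl

theorem exists_aut {A : ℕ → RuVec} (h1 : ∀ j < 56, ∀ l < 56, dot (A j) (A l) = if j = l then 16 else 0)
    (h2 : ∀ j < 28, A (28 + j) = gI • A j) (h3 : ∀ j < 56, A j ∈ M)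
    (h4 : ∀ k < 37, ∃ w ∈ M, FA' A (bv k) = (4 : ℤ) • w) :
    ∃ f ∈ fourRu, ∀ x : ruLattice, FA' A x = (4 : ℤ) • (f x).1 := by
  have hn : ∀ v, dot (FA' A v) (FA' A v) = 16 * dot v v := fun v => by
    rw [FA'_apply, sum_dot, dot.eq_1 v, mul_sum]
    refine sum_congr rfl fun j hj => ?_
    rw [dot_sum, sum_eq_single_of_mem j hj fun l hl e => by
      rw [smul_dot, dot_smul, h1 j (mem_range.mp hj) l (mem_range.mp hl), if_neg e.symm]; simp,
      smul_dot, dot_smul, h1 j (mem_range.mp hj) j (mem_range.mp hj), if_pos rfl]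
    ring
  have hi : ∀ v, FA' A (gI • v) = gI • FA' A v := fun v => by
    rw [FA'_apply, FA'_apply, show 56 = 28 + 28 from rfl, sum_range_add, sum_range_add, smul_add,
      smul_sum, smul_sum, add_comm]
    congr 1 <;> refine sum_congr rfl fun j hj => ?_
    · rw [co_gI_hi _ (mem_range.mp hj), h2 j (mem_range.mp hj), smul_comm]
    · rw [co_gI_lo _ (mem_range.mp hj), h2 j (mem_range.mp hj), smul_comm gI, gI_gI, neg_smul,
        smul_neg]
  have hm : ∀ v ∈ M, ∃ w ∈ M, FA' A v = (4 : ℤ) • w := M_ind h4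
    (fun z => ⟨FA' A z, sum_mem fun j hj => zsmul_mem (h3 j (mem_range.mp hj)) _, map_zsmul _ _ _⟩)
    (fun x _ y _ ⟨v, hv, e⟩ ⟨w, hw, e'⟩ => ⟨v + w, add_mem hv hw, by rw [map_add, e, e', smul_add]⟩)
    fun x ⟨v, hv, e⟩ => ⟨-v, neg_mem hv, by rw [map_neg, e, smul_neg]⟩
  choose g hg he using fun x : ruLattice => hm x (memM x)
  let g' : ruLattice → ruLattice := fun x => ⟨g x, memL (hg x)⟩
  have ha : ∀ x y, g' (x + y) = g' x + g' y := fun x y => Subtype.ext (four_inj (by
    show _ • g (x + y) = _ • (g x + g y)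
    rw [smul_add, ← he, ← he, ← he, ← map_add]; rfl))
  have hn' : ∀ x, dot (g x) (g x) = dot x x := fun x => by
    have := hn x
    rw [he, smul_dot, dot_smul] at this
    omega
  have hinj : Function.Injective g' := (injective_iff_map_eq_zero (AddMonoidHom.mk' g' ha)).mpr
    fun x e => Subtype.ext (eq_zero_of_dot (by
      rw [← hn', show g x = 0 from congrArg Subtype.val e, dot_zero]))
  have hsur : Function.Surjective g' := fun y => by
    have hfin : {x : ruLattice | dot x x = dot y y}.Finite :=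
      (finite_norm (dot y y)).preimage Subtype.val_injective.injOn
    obtain ⟨x, -, e⟩ := (hfin.injOn_iff_bijOn_of_mapsTo (f := g')
      fun x hx => (hn' x).trans hx).mp hinj.injOn |>.surjOn (show y ∈ _ from rfl)
    exact ⟨x, e⟩
  refine ⟨Equiv.ofBijective g' ⟨hinj, hsur⟩, ⟨ha, fun x => Subtype.ext (four_inj ?_), fun x => ?_⟩,
    he⟩
  · show _ • g (ruI x) = _ • gI • g x
    rw [smul_comm, ← he, ← he, ← hi]; rfl
  · rw [norm_eq, norm_eq]; exact hn' x

/-- the automorphism permutes the lines in the given way -/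
def Act (f : Equiv.Perm ruLattice) (σ : ℕ → ℕ) : Prop :=
  ∀ (x : ruLattice) i, dot x x = 16 → OnL x i → OnL (f x) (σ i)

theorem exists_onL {x : ruLattice} (h : dot x x = 16) : ∃ i, OnL x i :=
  ((enum (memM x) h.le).resolve_left fun e => by rw [e, dot_zero] at h; omega).2

theorem valP_F (AP AN : List ℕ) (hl : AP.length = 56) (p n : ℕ) {o : ℕ} (ho : o < 56) :
    (valP (cnt (ones 56) [] AP AN p n) o : ℤ) =
      co (FA' (fun j => mk (nth 0 AP j) (nth 0 AN j)) (mk p n)) o + (pcn 56 p + pcn 56 n) := by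
  rw [valP_cnt (tbo ho), hl, valP_nil, Nat.cast_zero, zero_add, FA'_apply, co_sum]
  congr 1
  exact sum_congr rfl fun j hj => by rw [co_smul, co_mk _ _ (mem_range.mp hj), co_mk _ _ ho]

theorem genOk_sound (hU : Rua.R.U.Ok 12) {z : ℕ} (hz : evA Rua.R.U.τ [z] ∈ FixFrom 4060)
    {AP AN : List ℕ} {HA HB : List (ℕ × ℕ)} (h : genOk z AP AN HA HB = true) :
    ∃ f ∈ fourRu, Act f (evA Rua.R.U.τ [z] : Equiv.Perm ℕ) := by
  unfold genOk at h
  simp only [band_eq, Bool.and_eq_true, Nat.beq_eq] at h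
  obtain ⟨hl, ho, hi, hc, hb⟩ := h
  have hb' : ∀ k < 37, ∃ lo hi w, FA' (fun j => mk (nth 0 AP j) (nth 0 AN j)) (bv k) = (4 : ℤ) • w ∧
      Res w lo hi ∧ img3 (nth (0, 0) HB k) (Rua.R.U.pushL [z] (nth 0 YB k)) lo hi = true :=
    fun k hk => by
    have h := (allN_iff _ _).mp hb k hk
    unfold img2 at h
    rw [band_eq, Bool.and_eq_true] at h
    have h1 := fun o (ho : o < 56) => valP_F AP AN hl (nth 0 BP k) (nth 0 BN k) ho
    have h2 := fun o => bt_valP (cnt (ones 56) [] AP AN (nth 0 BP k) (nth 0 BN k)) o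
    rw [wt_sound (gram hk).1] at h1
    obtain ⟨w, hw⟩ := exists_four (v := FA' (fun j => mk (nth 0 AP j) (nth 0 AN j)) (bv k))
      fun o ho => by
        have e0 := h2 o 0
        have e1 := h2 o 1
        rw [(eq2_sound h.1).1, bt_zero] at e0
        rw [(eq2_sound h.1).2, bt_zero] at e1
        have := h1 o ho
        unfold bv
        omega
    refine ⟨_, _, w, hw, fun o ho => ?_, h.2⟩
    have := h1 o ho
    rw [← bv, hw, co_smul] at this
    rw [h2, h2]
    omega
  obtain ⟨f, hf, he⟩ := exists_aut (A := fun j => mk (nth 0 AP j) (nth 0 AN j))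
    (fun j hj l hl => by
      have h := (allN_iff _ _).mp ho j hj
      unfold orth2 at h
      rw [band_eq, Bool.and_eq_true] at h
      have h1 := valP_tr (tbo hl) AP AN (nth 0 AP j) (nth 0 AN j)
      rw [leqL_sound h.2, wt_sound h.1] at h1
      simp only [valP, tb_andn, tbo hl, tb_shl_one, Nat.zero_testBit] at h1
      split_ifs with e <;> simp [e] at h1 ⊢ <;> omega)
    (fun j hj => by
      have h := eq2_sound ((allN_iff _ _).mp hi j hj)
      simp only [gI_mk, h.1, h.2])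
    (fun j hj => mem2_sound ((allN_iff _ _).mp hc j hj))
    (fun k hk => by
      obtain ⟨lo, hi, w, e, h1, h2⟩ := hb' k hk
      unfold img3 at h2
      rw [band_eq, Bool.and_eq_true] at h2
      exact ⟨w, cod_of h2.1 w h1, e⟩)
  refine ⟨f, hf, fun x i hx hi => ?_⟩
  obtain ⟨j, hj⟩ := exists_onL ((f_norm hf x).trans hx)
  suffices e : (evA Rua.R.U.τ [z])⁻¹ j = i by rw [← e]; simpa using hj
  refine sep (FixFrom.lt (inv_mem hz) hj.1) hi.1 fun k hk => ?_
  obtain ⟨lo, hh, w, e, h1, h2⟩ := hb' k hk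
  unfold img3 at h2
  simp only [band_eq, Bool.and_eq_true, Nat.beq_eq, sub_iff] at h2
  obtain ⟨-, h3, h4, h5, h6⟩ := h2
  have h7 : w = f ⟨bv k, memL (bv_mem hk)⟩ := four_inj (e.symm.trans (he ⟨_, _⟩))
  have h8 : Nat.xor (andn lo hh) hh = lo := Nat.eq_of_testBit_eq fun j => by
    have := h3 j
    rw [tb_xor, tb_andn]
    revert this
    cases lo.testBit j <;> cases hh.testBit j <;> simp
  have h9 : w = mk (andn lo hh) hh := eq_of_mod4 (fun j hj => by
      have := h3 j
      have := h1 j hj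
      unfold sg
      rw [bt_andn]
      unfold bt at this ⊢
      cases e1 : lo.testBit j <;> cases e2 : hh.testBit j <;> simp_all <;> omega)
    (by rw [h8, h4, h7, f_norm hf]; exact (gram hk).2.1.le)
  have h10 := hj.rel (memM _) (h9 ▸ h7 ▸ memM _) h5
  rw [← h9, h7, f_rel hf, yb hk hi (memM _), h6] at h10
  rw [← hU.tb_pushL [z], Equiv.Perm.coe_inv, Equiv.apply_symm_apply, Bool.eq_iff_iff, ← Bool.not_eq_false,
    ← Bool.not_eq_false, h10]

end Cfsg.Agent.Spor.RuL
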