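/-
The automorphism group of the Conway–Wales lattice modulo its centre is the permutation group of
degree 4060.
-/
import Cfsg.Agent.Spor.RuL.T4
import Cfsg.Agent.Spor.Rua.R.Main

set_option autoImplicit false

namespace Cfsg.Agent.Spor.RuL

open Cfsg.Spor Equiv Rua.R

theorem Act.inv {f : Perm ruLattice} (hf : f ∈ fourRu) {σ : Perm ℕ} (h : Act f σ) :
    Act f⁻¹ (σ⁻¹ : Perm ℕ) := fun x i hx hi => by
  have h1 := (f_norm (inv_mem hf) x).trans hx
  obtain ⟨j, hj⟩ := exists_onL h1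
  have h2 := h _ j h1 hj
  rw [show f (f⁻¹ x) = x by simp] at h2
  rw [← h2.uniq hi (memM x)]
  simpa using hj

theorem Act.mul {f g : Perm ruLattice} (hg : g ∈ fourRu) {σ τ : ℕ → ℕ} (h : Act f σ)
    (h' : Act g τ) : Act (f * g) (σ ∘ τ) := fun x i hx hi =>
  h (g x) (τ i) ((f_norm hg x).trans hx) (h' x i hx hi)

theorem act_P : ∀ σ ∈ U.lsub W1, ∃ f ∈ fourRu, Act f σ := fun σ hσ => by
  induction hσ using Subgroup.closure_induction with
  | mem σ h =>
    obtain ⟨w, hw, rfl⟩ := h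
    have hz := rk.fix (U.mem_lsub hw)
    simp only [W1, List.mem_cons, List.not_mem_nil, or_false] at hw
    rcases hw with rfl | rfl | rfl | rfl | rfl
    exacts [genOk_sound hU hz c_gen7, genOk_sound hU hz c_gen1, genOk_sound hU hz c_gen9,
      genOk_sound hU hz c_gen3, genOk_sound hU hz c_gen5]
  | one => exact ⟨1, one_mem _, fun _ _ _ h => h⟩
  | mul σ τ _ _ h1 h2 =>
    obtain ⟨f, hf, h1⟩ := h1
    obtain ⟨g, hg, h2⟩ := h2
    exact ⟨f * g, mul_mem hf hg, h1.mul hg h2⟩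
  | inv σ _ h =>
    obtain ⟨f, hf, h⟩ := h
    exact ⟨f⁻¹, inv_mem hf, h.inv hf⟩

theorem v0 : ∃ p n, vec 0 = mk p n ∧ mk p n ∈ M ∧ dot (mk p n) (mk p n) = 16 ∧ w32 p n = true ∧
    andn (ones 4060) (bpl p n) = Nat.lor M10 1 ∧ M10.testBit 0 = false := by
  have h := c_v0
  unfold v0Ok v02 at h
  simp only [band_eq, Bool.and_eq_true, Nat.beq_eq, evn_eq, Bool.not_eq_true'] at h
  exact ⟨_, _, by rw [vec, if_neg (by rw [h.1]; simp), one_smul], mem2_sound h.2.2.1,
    (dot_mk _ _).trans (by rw [h.2.2.2.1]; rfl), h.2.2.2.2.1, h.2.2.2.2.2, h.2.1⟩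

theorem onL_zero {x : RuVec} (e : vec 0 = x) : OnL x 0 := ⟨by norm_num, 0, by simp [e]⟩

theorem exists_X {i : ℕ} (hi : i < 4060) : ∃ x : ruLattice, dot x x = 16 ∧ OnL x i := by
  obtain ⟨g, hg, rfl⟩ := rk.tr i hi
  obtain ⟨f, hf, h⟩ := act_P g hg
  obtain ⟨p, n, e, h1, h2, -⟩ := v0
  exact ⟨f ⟨_, memL h1⟩, (f_norm hf _).trans h2, h ⟨_, memL h1⟩ 0 h2 (onL_zero e)⟩

theorem exists_act (f : fourRu) : ∃ σ : ℕ → ℕ, Act f σ ∧ ∀ i, 4060 ≤ i → σ i = i := by
  have : ∀ i, ∃ j, (∀ x : ruLattice, dot x x = 16 → OnL x i → OnL (f.1 x) j) ∧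
      (4060 ≤ i → j = i) := fun i => by
    by_cases hi : i < 4060
    · obtain ⟨y, h1, h2⟩ := exists_X hi
      obtain ⟨j, hj⟩ := exists_onL ((f_norm f.2 y).trans h1)
      refine ⟨j, fun x _ hx => ?_, fun h => by omega⟩
      obtain ⟨k, e⟩ := hx.eq h2
      rw [f_pow f.2 e]
      exact hj.pow k
    · exact ⟨i, fun x _ hx => absurd hx.1 hi, fun _ => rfl⟩
  choose σ h1 h2 using this
  exact ⟨σ, fun x i => h1 i x, h2⟩

theorem Act.uniq {f : Perm ruLattice} {σ τ : ℕ → ℕ} (h : Act f σ) (h' : Act f τ)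
    (h1 : ∀ i, 4060 ≤ i → σ i = i) (h2 : ∀ i, 4060 ≤ i → τ i = i) : σ = τ := funext fun i => by
  by_cases hi : i < 4060
  · obtain ⟨x, e, hx⟩ := exists_X hi
    exact (h x i e hx).uniq (h' x i e hx) (memM _)
  · rw [h1 i (by omega), h2 i (by omega)]

noncomputable def sm (f : fourRu) : ℕ → ℕ := (exists_act f).choose
theorem act_sm (f : fourRu) : Act f (sm f) := (exists_act f).choose_spec.1
theorem sm_fix (f : fourRu) : ∀ i, 4060 ≤ i → sm f i = i := (exists_act f).choose_spec.2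

noncomputable def smH : fourRu →* Function.End ℕ where
  toFun := sm
  map_one' := (act_sm 1).uniq (τ := id) (fun _ _ _ h => h) (sm_fix 1) fun _ _ => rfl
  map_mul' f g := (act_sm (f * g)).uniq ((act_sm f).mul g.2 (act_sm g)) (sm_fix _) fun i hi => by
    show sm f (sm g i) = i
    rw [sm_fix g i hi, sm_fix f i hi]

/-- the action on the lines of minimal vectors -/
noncomputable def φ : fourRu →* Perm ℕ := smH.toHomPerm

theorem act_φ (f : fourRu) : Act f (φ f) := act_sm f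
theorem φ_fix (f : fourRu) : φ f ∈ FixFrom 4060 := sm_fix f

def R' (i j : ℕ) : Prop :=
  i ≠ j ∧ ∃ x y : ruLattice, dot x x = 16 ∧ dot y y = 16 ∧ OnL x j ∧ OnL y i ∧ Rel x y

theorem R'.act {f : Perm ruLattice} (hf : f ∈ fourRu) {σ : Perm ℕ} (h : Act f σ) {i j : ℕ}
    (hr : R' i j) : R' (σ i) (σ j) := by
  obtain ⟨h1, x, y, hx, hy, h2, h3, h4⟩ := hr
  exact ⟨σ.injective.ne h1, f x, f y, (f_norm hf x).trans hx, (f_norm hf y).trans hy,
    h x j hx h2, h y i hy h3, (f_rel hf x y).mpr h4⟩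

theorem R'_iff {f : Perm ruLattice} (hf : f ∈ fourRu) {σ : Perm ℕ} (h : Act f σ) (i j : ℕ) :
    R' (σ i) (σ j) ↔ R' i j :=
  ⟨fun hr => by simpa using hr.act (inv_mem hf) (h.inv hf), fun hr => hr.act hf h⟩

theorem R'_zero (j : ℕ) : R' 0 j ↔ M10.testBit j = true := by
  obtain ⟨p, n, e, h1, h2, h3, h4, h5⟩ := v0
  have h6 := congrArg (·.testBit j) h4
  simp only [tb_andn, tb_lor, tb_ones] at h6
  constructor
  · rintro ⟨h7, x, y, -, -, hx, ⟨-, k, hy⟩, hr⟩
    rw [hy, e, rel_pow' k (memM x) h1, hx.rel (memM x) h1 h3] at hr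
    rw [hr, decide_eq_true hx.1, Bool.eq_false_iff.mpr
      (mt Nat.testBit_one_eq_true_iff_self_eq_zero.mp h7.symm)] at h6
    simpa using h6.symm
  · intro h7
    rw [h7, Bool.true_or, Bool.and_eq_true, decide_eq_true_eq, Bool.not_eq_true'] at h6
    obtain ⟨x, e', hx⟩ := exists_X h6.1
    exact ⟨fun e => by rw [← e, h5] at h7; simp at h7, x, ⟨_, memL h1⟩, e', h2, hx,
      onL_zero e, (hx.rel (memM x) h1 h3).mpr h6.2⟩

theorem R'_eq (i j : ℕ) : R' i j ↔ r i j := by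
  by_cases hi : i < 4060
  · obtain ⟨g, hg, rfl⟩ := rk.tr i hi
    obtain ⟨f, hf, h⟩ := act_P g hg
    obtain ⟨j, rfl⟩ := g.surjective j
    exact (R'_iff hf h 0 j).trans ((R'_zero j).trans ((row0 j).symm.trans (adj_smul hg).symm))
  · refine iff_of_false (fun ⟨_, _, _, _, _, _, h, _⟩ => hi h.1) ?_
    rintro ⟨g, hg, rfl, -⟩
    exact hi (FixFrom.lt (rk.fix hg) (by norm_num))

theorem range_φ : φ.range = Rua.P := by
  have h1 : U.lsub W1 = AutG r 4060 := by
    have := finite_of_fix (show AutG r 4060 ≤ FixFrom 4060 from fun _ h => h.1)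
    exact Subgroup.eq_of_le_of_card_ge (le_autG rk.fix 1) (autb.trans (by rw [← eG, Rua.cardP]))
  rw [Rua.P, eG]
  refine le_antisymm ?_ fun σ hσ => ?_
  · rintro _ ⟨f, rfl⟩
    rw [h1]
    exact ⟨φ_fix f, fun p q => by rw [← R'_eq, ← R'_eq, R'_iff f.2 (act_φ f)]⟩
  · obtain ⟨f, hf, h⟩ := act_P σ hσ
    exact ⟨⟨f, hf⟩, Equiv.coe_fn_injective ((act_φ ⟨f, hf⟩).uniq h (φ_fix _) (rk.fix hσ))⟩

/-- multiplication by `i` -/
noncomputable def J : fourRu :=
  ⟨⟨ruI, fun v => -ruI v, fun v => Subtype.ext (by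
      show -(gI • gI • v.1) = v.1
      rw [gI_gI, neg_neg]), fun v => Subtype.ext (by
      show gI • -(gI • v.1) = v.1
      rw [smul_neg, gI_gI, neg_neg])⟩,
    fun v w => Subtype.ext (smul_add _ _ _), fun _ => rfl, fun v => by
      rw [norm_eq, norm_eq]; exact gI_dot_gI _ _⟩

theorem J_pow (k : ℕ) (x : ruLattice) : ((J ^ k).1 x).1 = gI ^ k • x.1 := by
  induction k with
  | zero => simp
  | succ k ih => rw [pow_succ', pow_succ', mul_smul, ← ih]; rfl

theorem J_center : J ∈ Subgroup.center fourRu := Subgroup.mem_center_iff.mpr fun f =>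
  Subtype.ext (Equiv.ext fun v => f.2.2.1 v)

theorem J_ker : φ J = 1 := Equiv.coe_fn_injective
  ((act_φ J).uniq (τ := id) (fun _ _ _ h => h.gI) (φ_fix _) fun _ _ => rfl)

theorem orderOf_J : orderOf J = 4 := by
  refine orderOf_eq_prime_pow (p := 2) (n := 1) (fun h => ?_)
    (Subtype.ext (Equiv.ext fun v => Subtype.ext ?_))
  · have h1 := J_pow (2 ^ 1) ⟨bv 0, memL (bv_mem (by norm_num))⟩
    rw [h, pow_one, pow_two, mul_smul, gI_gI] at h1
    have h2 := (gram (k := 0) (by norm_num)).2.1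
    have h3 : dot (bv 0) (bv 0) = dot (bv 0) (-bv 0) := congrArg (dot (bv 0)) h1
    rw [dot_neg] at h3
    omega
  · rw [J_pow, show 2 ^ (1 + 1) = 4 from rfl, gI_pow_four, one_smul]; rfl

theorem fix_of {g : fourRu} (hg : φ g = 1) {x y : ruLattice} (hx : g.1 x = x) (hy : dot y y = 16)
    (h : dot x y ≠ 0) : g.1 y = y := by
  obtain ⟨i, hi⟩ := exists_onL hy
  have h1 := act_φ g y i hy hi
  rw [hg] at h1
  obtain ⟨k, e⟩ := h1.eq hi
  have h2 := f_dot g.2 x y
  have h3 : dot (g.1 x) (g.1 (ruI y)) = dot x (gI • y.1) := f_dot g.2 x (ruI y)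
  rw [f_gI g.2 (x := ruI y) rfl] at h3
  rw [pow_eq_pow_mod k gI_pow_four] at e
  rw [hx, e] at h2 h3
  refine Subtype.ext (e.trans ?_)
  have h4 : k % 4 < 4 := Nat.mod_lt _ (by norm_num)
  generalize k % 4 = m at h2 h3 h4
  interval_cases m <;>
    simp only [pow_succ', pow_zero, mul_smul, one_smul, gI_gI, smul_neg, dot_neg] at h2 h3 ⊢ <;>
    omega

theorem eq_one {g : fourRu} (hg : φ g = 1) {x : ruLattice} (e : x.1 = bv 0) (hx : g.1 x = x) :
    g = 1 := by
  have h := c_ker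
  unfold kerOk at h
  rw [band_eq, Bool.and_eq_true, lall_iff, allN_iff] at h
  have h1 : ∀ j (hj : j < 56), g.1 ⟨fr j, fr_mem hj⟩ = ⟨fr j, fr_mem hj⟩ := fun j hj => by
    obtain ⟨k, hk, h2⟩ := List.any_eq_true.mp (h.2 j hj)
    have h3 := h.1 k hk
    rw [band_eq, Bool.and_eq_true, Nat.blt_eq, decide_eq_true_eq] at h3
    have h4 := valP_B h3.1 (nth 0 BP 0) (nth 0 BN 0)
    rw [wt_sound (gram (by norm_num)).1, ← bv] at h4
    have h5 := fix_of hg hx (y := ⟨bv k, memL (bv_mem h3.1)⟩) (gram h3.1).2.1 (by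
      have := h3.2
      rw [e]; show dot (bv 0) (bv k) ≠ 0; omega)
    rw [Bool.or_eq_true, decide_eq_true_eq, decide_eq_true_eq] at h2
    rcases h2 with h2 | h2
    · exact fix_of hg h5 (fr_norm hj) (by rw [dot_comm, fr_dot hj]; exact mul_ne_zero (by norm_num) h2)
    · exact fix_of hg (x := ruI ⟨bv k, memL (bv_mem h3.1)⟩) (by rw [g.2.2.1, h5]) (fr_norm hj)
        (by rw [dot_comm, fr_dot hj]; exact mul_ne_zero (by norm_num) h2)
  refine Subtype.ext (Equiv.ext fun v => Subtype.ext (vec_ext fun j hj => ?_))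
  have h2 := f_dot g.2 ⟨fr j, fr_mem hj⟩ v
  rw [h1 j hj, fr_dot hj, fr_dot hj] at h2
  show co (g.1 v).1 j = co v.1 j
  omega

theorem ker_φ : φ.ker = Subgroup.zpowers J := by
  refine le_antisymm (fun f hf => ?_) (Subgroup.zpowers_le_of_mem J_ker)
  let x : ruLattice := ⟨bv 0, memL (bv_mem (by norm_num))⟩
  have hx : dot x x = 16 := (gram (k := 0) (by norm_num)).2.1
  obtain ⟨i, hi⟩ := exists_onL hx
  have h1 := act_φ f x i hx hi
  rw [MonoidHom.mem_ker.mp hf] at h1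
  obtain ⟨k, e⟩ := hi.eq h1
  have h2 : J ^ k * f = 1 := eq_one (by rw [map_mul, map_pow, J_ker, one_pow, one_mul, hf]) (x := x)
    rfl (Subtype.ext ((J_pow k (f.1 x)).trans e.symm))
  rw [eq_inv_of_mul_eq_one_right h2]
  exact inv_mem (pow_mem (Subgroup.mem_zpowers J) k)

theorem center_P : Subgroup.center Rua.P = ⊥ := by
  refine (Rua.simpleP.eq_bot_or_eq_top_of_normal _ inferInstance).resolve_right fun h => ?_
  have h1 : commutator Rua.P = ⊥ := by
    rw [commutator_def, Subgroup.commutator_eq_bot_iff_le_centralizer, Subgroup.coe_top,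
      Subgroup.centralizer_univ, h]
  have h2 := Rua.cardP
  rw [← Subgroup.card_top, ← Rua.perfectP, h1, Subgroup.card_bot] at h2
  omega

theorem center_eq : Subgroup.center fourRu = φ.ker := by
  refine le_antisymm (fun f hf => ?_) (ker_φ ▸ Subgroup.zpowers_le_of_mem J_center)
  have h : (⟨φ f, range_φ ▸ ⟨f, rfl⟩⟩ : Rua.P) ∈ Subgroup.center Rua.P :=
    Subgroup.mem_center_iff.mpr fun ⟨g, hg⟩ => Subtype.ext (by
      obtain ⟨g, rfl⟩ : g ∈ φ.range := range_φ ▸ hg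
      show φ g * φ f = φ f * φ g
      rw [← map_mul, ← map_mul, Subgroup.mem_center_iff.mp hf g])
  rw [center_P, Subgroup.mem_bot] at h
  exact congrArg Subtype.val h

theorem card_center : Nat.card (Subgroup.center fourRu) = 4 := by
  rw [center_eq, ker_φ, Nat.card_zpowers, orderOf_J]

theorem iso : Nonempty (Ru ≃* Rua.P) :=
  ⟨(QuotientGroup.quotientMulEquivOfEq center_eq).trans
    ((QuotientGroup.quotientKerEquivRange φ).trans (MulEquiv.subgroupCongr range_φ))⟩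

end Cfsg.Agent.Spor.RuL
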