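/-
Checkers for computations in the Conway–Wales lattice, with the data.
-/
import Cfsg.Agent.Spor.R3A
import Cfsg.Agent.Spor.RuL.K0
import Cfsg.Agent.Spor.RuL.D0
import Cfsg.Agent.Spor.Rua.R.D0

set_option autoImplicit false

namespace Cfsg.Agent.Spor.RuL

open Cfsg.Spor

noncomputable section

def bv (k : Nat) : RuVec := mk (nth 0 BP k) (nth 0 BN k)

def cmb2 (k : Nat → Nat → Bool) (D : List Nat) : Bool := k (nth 0 D 0) (nth 0 D 1)

/-- a combination of the generators modulo four -/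
def cmb (c : Nat × Nat) (k : Nat → Nat → Bool) : Bool :=
  band (Nat.beq (Nat.mod (Nat.add (pcn 76 c.1) (pcn 76 c.2)) 4) 0)
    (cmb2 k (cnt (ones 56) List.nil BBP BBN c.1 c.2))

def eq2 (a b c d : Nat) : Bool := band (Nat.beq c a) (Nat.beq d b)

def bbOk (k : Nat) : Bool :=
  eq2 (nth 0 BP (k % 37)) (nth 0 BN (k % 37)) (nth 0 BBP k) (nth 0 BBN k) ||
    eq2 0 0 (nth 0 BBP k) (nth 0 BBN k)

def clOk (z : Nat) : Bool :=
  allN (fun k => cmb (nth (0, 0) HC (37 * z + k)) (codOk (mp z (bv k)))) 37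

def tabOk (t : Nat) : Bool := cmb (nth (0, 0) HT t) (codOk (nth 0 ruTable t))

def gram2 (p n : Nat) : Bool :=
  band (wt 56 p n 16) (band (Nat.beq (pcn 56 (Nat.xor p n)) 16)
    (cmb2 (eq2 0 0) (cnt (ones 37) List.nil BTP BTN p n)))

def gramOk (k : Nat) : Bool := gram2 (nth 0 BP k) (nth 0 BN k)

def gOk (k : Nat) : Bool := Nat.beq (nth 0 G k) (Nat.xor (nth 0 BP k) (nth 0 BN k))

def msgOk (k : Nat) : Bool :=
  band (Nat.blt (nth 0 MB k) 524288)
    (Nat.beq (xs G (nth 0 MB k)) (Nat.xor (nth 0 BP k) (nth 0 BN k)))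

def mskE (H : List (List Nat)) : Nat :=
  List.rec 0 (fun e _ ih => Nat.lor (Nat.shiftLeft 1 (hd e)) ih) H

def mskH (HH : List (List (List Nat))) : Nat := List.rec 0 (fun H _ ih => Nat.lor (mskE H) ih) HH

def lowM (o : Nat) : Nat :=
  andn o (nth 0 (sumP [o, o, o, o, 0, o] (lmap (xs (idpls 19 19 0)) COL)) 6)

def leaf0 (s y : Nat) : Bool := Bool.rec true (Nat.beq s 4) (Nat.beq y 0)

def r0k (k : Nat) : Bool := subs leaf0 (drp (Nat.succ k) COL) 3 (Nat.xor 0 (nth 0 COL k))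

def allR (g : Nat → Bool) (a n : Nat) : Bool := allN (fun i => g (Nat.add a i)) n

def rotP (c p n : Nat) : Nat := Bool.rec (rt n p) p (evn c)
def rotN (c p n : Nat) : Nat := Bool.rec (rt p n) n (evn c)

def vP (c : Nat) : Nat := rotP c (rd PP (hf c)) (rd NP (hf c))
def vN (c : Nat) : Nat := rotN c (rd PP (hf c)) (rd NP (hf c))

def frOk2 (j c : Nat) : Bool :=
  band (Nat.blt (hf c) 4060) (band (Nat.testBit FA (hf c)) (eq2 (Nat.shiftLeft 1 j) 0 (vP c) (vN c)))

def frOk (j : Nat) : Bool := frOk2 j (nth 0 HF j)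

def hy (r c p n ih : Nat) : Nat :=
  Bool.rec ih (Nat.lor (Nat.lor (Nat.shiftLeft 1 (cmp 56 r n)) (Nat.shiftLeft 1 (cmp 56 r p))) ih)
    (band (Nat.blt (hf c) 4060) (band (evn (Nat.shiftRight FA (hf c))) (Nat.beq (Nat.xor p n) r)))

def hintY (r : Nat) (hs : List Nat) : Nat := List.rec 0 (fun c _ ih => hy r c (vP c) (vN c) ih) hs

def res2 (o s Y φ : Nat) (E : List Nat) : Bool := subs (fun _ y => sub (sel o E y) Y) COL s φ

def resOk (K s r : Nat) (hs : List Nat) : Bool :=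
  band (Nat.beq (pcn 56 r) K) (res2 (ones (Nat.shiftLeft 1 K)) s (hintY r hs)
    (nth 0 (cnt (ones 37) List.nil BTP BTN r 0) 1) (lmap (xs (spr 56 r (idpls K K 0))) G))

def okC (K s : Nat) (H : List (List Nat)) : Bool := lall (fun e => resOk K s (xs G (hd e)) (tl e)) H

def bp2 (C : List Nat) : Nat := Nat.lor (andn (nth 0 C 2) FA) (Nat.land (nth 0 C 0) FA)

/-- the points whose vectors are not related to the given vector -/
def bpl (p n : Nat) : Nat :=
  bp2 (cnt (ones 4060) (cnt (ones 4060) List.nil PP NP p n) PP NP (rt n p) (rt p n))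

def w32 (p n : Nat) : Bool := band (wt 56 p n 16) (wt 56 (rt n p) (rt p n) 16)

def ybOk (k : Nat) : Bool :=
  band (w32 (nth 0 BP k) (nth 0 BN k)) (Nat.beq (bpl (nth 0 BP k) (nth 0 BN k)) (nth 0 YB k))

def mem2 (c : Nat × Nat) (p n : Nat) : Bool := cmb c (eq2 (Nat.xor p n) (andn n p))

def v02 (p n : Nat) : Bool :=
  band (mem2 HV p n) (band (Nat.beq (pcn 56 (Nat.xor p n)) 16) (band (w32 p n)
    (Nat.beq (andn (ones 4060) (bpl p n)) (Nat.lor Rua.R.M10 1))))

def v0Ok : Bool := band (evn FA) (band (evn Rua.R.M10) (v02 (rd PP 0) (rd NP 0)))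

def orth2 (TP TN : List Nat) (j p n : Nat) : Bool :=
  band (wt 56 p n 16) (leqL (cnt (ones 56) List.nil TP TN p n)
    [0, 0, 0, 0, andn (ones 56) (Nat.shiftLeft 1 j), Nat.shiftLeft 1 j])

def orthOk (AP AN TP TN : List Nat) : Bool :=
  allN (fun j => orth2 TP TN j (nth 0 AP j) (nth 0 AN j)) 56

def ilinOk (AP AN : List Nat) : Bool :=
  allN (fun j => eq2 (rt (nth 0 AN j) (nth 0 AP j)) (rt (nth 0 AP j) (nth 0 AN j))
    (nth 0 AP (28 + j)) (nth 0 AN (28 + j))) 28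

def colOk (AP AN : List Nat) (HA : List (Nat × Nat)) : Bool :=
  allN (fun j => mem2 (nth (0, 0) HA j) (nth 0 AP j) (nth 0 AN j)) 56

def img3 (c : Nat × Nat) (y lo hi : Nat) : Bool :=
  band (cmb c (eq2 lo hi)) (band (sub hi lo) (band (Nat.beq (pcn 56 lo) 16)
    (band (w32 (andn lo hi) hi) (Nat.beq (bpl (andn lo hi) hi) y))))

def img2 (c : Nat × Nat) (y : Nat) (C : List Nat) : Bool :=
  band (cmb2 (eq2 0 0) C) (img3 c y (nth 0 C 2) (nth 0 C 3))

def imgOk (z : Nat) (AP AN : List Nat) (HB : List (Nat × Nat)) : Bool :=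
  allN (fun k => img2 (nth (0, 0) HB k) (Rua.R.U.pushL [z] (nth 0 YB k))
    (cnt (ones 56) List.nil AP AN (nth 0 BP k) (nth 0 BN k))) 37

def genOk (z : Nat) (AP AN : List Nat) (HA HB : List (Nat × Nat)) : Bool :=
  band (Nat.beq AP.length 56) (band (orthOk AP AN (tr AP) (tr AN)) (band (ilinOk AP AN)
    (band (colOk AP AN HA) (imgOk z AP AN HB))))

def kerOk : Bool :=
  band (lall (fun k => band (Nat.blt k 37)
      (decide (valP (cnt (ones 37) List.nil BTP BTN (nth 0 BP 0) (nth 0 BN 0)) k ≠ 16))) KL)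
    (allN (fun j => KL.any fun k => decide (co (bv k) j ≠ 0) || decide (co (gI • bv k) j ≠ 0)) 56)

end

end Cfsg.Agent.Spor.RuL
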